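import Groth.Agent.Lib.Comod.Integral
import Mathlib.RingTheory.Trace.Basic
import Mathlib.LinearAlgebra.Trace
import Mathlib.RingTheory.HopfAlgebra.Convolution

/-!
# The trace form is an invariant integral on a finite commutative Hopf algebra
-/

universe u v

open TensorProduct

namespace GrothLib.Comodule

variable {k : Type u} [CommRing k] {A : Type v} [CommRing A] [HopfAlgebra k A]

variable (k A) in
/-- `y ↦ ∑ y₂ ⊗ y₁` -/
noncomputable def flipComul : A →ₐ[k] A ⊗[k] A :=
  (Algebra.TensorProduct.comm k A A).toAlgHom.comp (Bialgebra.comulAlgHom k A)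

variable (k A) in
/-- `x ⊗ y ↦ ∑ x y₂ ⊗ y₁` -/
noncomputable def shearHom : A ⊗[k] A →ₐ[A] A ⊗[k] A :=
  Algebra.TensorProduct.lift (Algebra.ofId A (A ⊗[k] A)) (flipComul k A) fun _ _ => Commute.all _ _

variable (k A) in
/-- `x ⊗ y ↦ ∑ x S(y₂) ⊗ y₁` -/
noncomputable def unshearHom : A ⊗[k] A →ₐ[A] A ⊗[k] A :=
  Algebra.TensorProduct.lift (Algebra.ofId A (A ⊗[k] A))
    ((Algebra.TensorProduct.map (HopfAlgebra.antipodeAlgHom k A) (AlgHom.id k A)).comp
      (flipComul k A)) fun _ _ => Commute.all _ _

theorem shear_tmul (x y : A) : shearHom k A (x ⊗ₜ y) =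
    (x ⊗ₜ 1) * TensorProduct.comm k A A (Coalgebra.comul (R := k) y) := by
  simp [shearHom, flipComul, Algebra.TensorProduct.lift_tmul]
  rfl

theorem unshear_tmul (x y : A) : unshearHom k A (x ⊗ₜ y) =
    (x ⊗ₜ 1) * (HopfAlgebraStruct.antipode (R := k) (A := A)).rTensor A
      (TensorProduct.comm k A A (Coalgebra.comul (R := k) y)) := by
  simp [unshearHom, flipComul, Algebra.TensorProduct.lift_tmul]
  rfl

private theorem coassoc_contract (φ : A ⊗[k] A →ₗ[k] A)
    (hφ : ∀ a : A, φ (Coalgebra.comul (R := k) a) = algebraMap k A (Coalgebra.counit (R := k) a))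
    (y : A) :
    TensorProduct.comm k A A (φ.lTensor A (TensorProduct.assoc k A A A
      ((Coalgebra.comul (R := k) (A := A)).rTensor A (Coalgebra.comul (R := k) y)))) = 1 ⊗ₜ y := by
  rw [Coalgebra.coassoc_apply, ← LinearMap.comp_apply (φ.lTensor A), ← LinearMap.lTensor_comp,
    show φ ∘ₗ Coalgebra.comul (R := k) = Algebra.linearMap k A ∘ₗ Coalgebra.counit from
      LinearMap.ext hφ, LinearMap.lTensor_comp, LinearMap.comp_apply,
    Coalgebra.lTensor_counit_comul]
  simp

theorem unshear_shear (z : A ⊗[k] A) : unshearHom k A (shearHom k A z) = z := by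
  induction z using TensorProduct.induction_on with
  | zero => simp
  | tmul x y =>
    have hx : unshearHom k A (x ⊗ₜ 1) = x ⊗ₜ 1 := by simp [unshear_tmul, Algebra.TensorProduct.one_def]
    rw [shear_tmul, map_mul, hx]
    have hc := coassoc_contract (k := k) (A := A)
      (LinearMap.mul' k A ∘ₗ (HopfAlgebraStruct.antipode (R := k) (A := A)).rTensor A)
      (fun a => HopfAlgebra.mul_antipode_rTensor_comul_apply a) y
    rw [show x ⊗ₜ[k] y = (x ⊗ₜ 1) * (1 ⊗ₜ y) by simp, ← hc]
    congr 1
    induction Coalgebra.comul (R := k) y using TensorProduct.induction_on with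
    | zero => simp
    | tmul p q =>
      rw [TensorProduct.comm_tmul, unshear_tmul, LinearMap.rTensor_tmul]
      induction Coalgebra.comul (R := k) p using TensorProduct.induction_on with
      | zero => simp
      | tmul a b => simp [mul_comm]
      | add a b ha hb => simp only [TensorProduct.add_tmul, map_add, mul_add, ha, hb]
    | add a b ha hb => simp only [map_add, ha, hb]
  | add a b ha hb => simp only [map_add, ha, hb]

theorem shear_unshear (z : A ⊗[k] A) : shearHom k A (unshearHom k A z) = z := by
  induction z using TensorProduct.induction_on with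
  | zero => simp
  | tmul x y =>
    have hx : shearHom k A (x ⊗ₜ 1) = x ⊗ₜ 1 := by simp [shear_tmul, Algebra.TensorProduct.one_def]
    rw [unshear_tmul, map_mul, hx]
    have hc := coassoc_contract (k := k) (A := A)
      (LinearMap.mul' k A ∘ₗ (HopfAlgebraStruct.antipode (R := k) (A := A)).lTensor A)
      (fun a => HopfAlgebra.mul_antipode_lTensor_comul_apply a) y
    rw [show x ⊗ₜ[k] y = (x ⊗ₜ 1) * (1 ⊗ₜ y) by simp, ← hc]
    congr 1
    induction Coalgebra.comul (R := k) y using TensorProduct.induction_on with
    | zero => simp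
    | tmul p q =>
      rw [TensorProduct.comm_tmul, LinearMap.rTensor_tmul, LinearMap.rTensor_tmul, shear_tmul]
      induction Coalgebra.comul (R := k) p using TensorProduct.induction_on with
      | zero => simp
      | tmul a b => simp [mul_comm]
      | add a b ha hb => simp only [TensorProduct.add_tmul, map_add, mul_add, ha, hb]
    | add a b ha hb => simp only [map_add, ha, hb]
  | add a b ha hb => simp only [map_add, ha, hb]

variable (k A) in
/-- the shear automorphism -/
noncomputable def shear : A ⊗[k] A ≃ₐ[A] A ⊗[k] A :=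
  AlgEquiv.ofAlgHom (shearHom k A) (unshearHom k A) (AlgHom.ext shear_unshear)
    (AlgHom.ext unshear_shear)

theorem IsInvariant.smul {α : A →ₗ[k] k} (h : IsInvariant α) (c : k) : IsInvariant (c • α) :=
  fun a => by
    rw [LinearMap.rTensor_smul, LinearMap.smul_apply, map_smul, h a, LinearMap.smul_apply,
      smul_smul, smul_eq_mul]

variable [Module.Free k A] [Module.Finite k A]

theorem trace_tmul' (p q : A) :
    Algebra.trace A (A ⊗[k] A) (p ⊗ₜ q) = Algebra.trace k A q • p := by
  have h1 : Algebra.lmul A (A ⊗[k] A) (1 ⊗ₜ q) = (Algebra.lmul k A q).baseChange A := by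
    refine LinearMap.ext fun z => ?_
    induction z using TensorProduct.induction_on with
    | zero => simp
    | tmul a b => simp
    | add a b ha hb => simp only [map_add, ha, hb]
  rw [show p ⊗ₜ[k] q = p • ((1 : A) ⊗ₜ[k] q) by
      rw [TensorProduct.smul_tmul', smul_eq_mul, mul_one],
    map_smul, Algebra.trace_apply (R := A) (S := A ⊗[k] A), h1, LinearMap.trace_baseChange,
    ← Algebra.trace_apply, smul_eq_mul, Algebra.smul_def, mul_comm]

theorem isInvariant_trace : IsInvariant (Algebra.trace k A) := fun a => by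
  have h : Algebra.trace A (A ⊗[k] A) (shearHom k A (1 ⊗ₜ a)) =
      Algebra.trace A (A ⊗[k] A) (1 ⊗ₜ a) := Algebra.trace_eq_of_algEquiv (shear k A) (1 ⊗ₜ[k] a)
  rw [trace_tmul', shear_tmul, ← Algebra.TensorProduct.one_def, one_mul] at h
  rw [← h]
  induction Coalgebra.comul (R := k) a using TensorProduct.induction_on with
  | zero => simp
  | tmul p q => simp [trace_tmul']
  | add a b ha hb => simp only [map_add, ha, hb]

end GrothLib.Comodule
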