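import Groth.Agent.Lib.Comod.Semi
import Mathlib.LinearAlgebra.Dual.Lemmas

/-!
# Coefficient spaces and subcoalgebras
-/

universe u v w w'

open TensorProduct HopfRep GrothLib.Hopf

namespace GrothLib.Comodule

variable {k : Type u} [Field k] {C : Type v} [AddCommGroup C] [Module k C] [Coalgebra k C]
  {V : Type w} [AddCommGroup V] [Module k V] [HopfRep.Comod k C V]
  {W : Type w'} [AddCommGroup W] [Module k W] [HopfRep.Comod k C W]

local notation "ρ" => (HopfRep.Comod.coact (k := k) (A := C))

theorem ext_dual_left {N : Type*} [AddCommGroup N] [Module k N] {x y : V ⊗[k] N}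
    (h : ∀ φ : Module.Dual k V,
      TensorProduct.lid k N (φ.rTensor N x) = TensorProduct.lid k N (φ.rTensor N y)) : x = y := by
  classical
  let b := Module.Free.chooseBasis k V
  refine (TensorProduct.equivFinsuppOfBasisLeft b).injective (Finsupp.ext fun i => ?_)
  have key : ∀ z : V ⊗[k] N, TensorProduct.equivFinsuppOfBasisLeft b z i =
      TensorProduct.lid k N ((b.coord i).rTensor N z) := fun z => by
    induction z using TensorProduct.induction_on with
    | zero => simp
    | tmul m c => simp
    | add a c ha hc => simp [ha, hc]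
  rw [key, key, h]

/-- a subcoalgebra -/
def IsSubcoalg (B : Submodule k C) : Prop :=
  ∀ b ∈ B, CoalgebraStruct.comul (R := k) b ∈
    LinearMap.range (TensorProduct.map B.subtype B.subtype)

theorem IsSubcoalg.isSubcomod {B : Submodule k C} (h : IsSubcoalg B) :
    IsSubcomod (k := k) (A := C) B := fun b hb => by
  obtain ⟨x, hx⟩ := h b hb
  rw [← LinearMap.rTensor_comp_lTensor] at hx
  exact ⟨_, hx⟩

/-- the matrix coefficients attached to a form -/
noncomputable def cfMap (φ : Module.Dual k V) : V →ₗ[k] C :=
  (TensorProduct.lid k C).toLinearMap ∘ₗ φ.rTensor C ∘ₗ ρ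

theorem cfMap_apply (φ : Module.Dual k V) (v : V) :
    cfMap φ v = TensorProduct.lid k C (φ.rTensor C (ρ v)) := rfl

theorem isComodHom_cfMap (φ : Module.Dual k V) : Hoch.IsComodHom C (cfMap (C := C) φ) := by
  refine LinearMap.ext fun v => ?_
  change Coalgebra.comul (R := k) (cfMap φ v) = (cfMap φ).rTensor C (ρ v)
  have h1 : ∀ x : V ⊗[k] C, Coalgebra.comul (R := k) (TensorProduct.lid k C (φ.rTensor C x)) =
      TensorProduct.lid k (C ⊗[k] C) (φ.rTensor (C ⊗[k] C)
        ((Coalgebra.comul (R := k) (A := C)).lTensor V x)) := fun x => by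
    induction x using TensorProduct.induction_on with
    | zero => simp
    | tmul a c => simp
    | add a c ha hc => simp [ha, hc]
  have h2 : ∀ y : V ⊗[k] C, TensorProduct.lid k (C ⊗[k] C) (φ.rTensor (C ⊗[k] C)
      (TensorProduct.assoc k V C C ((ρ).rTensor C y))) = (cfMap φ).rTensor C y := fun y => by
    induction y using TensorProduct.induction_on with
    | zero => simp
    | tmul a c =>
      rw [LinearMap.rTensor_tmul, LinearMap.rTensor_tmul, cfMap_apply]
      induction ρ a using TensorProduct.induction_on with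
      | zero => simp
      | tmul p q => simp [TensorProduct.smul_tmul']
      | add p q hp hq => simp only [TensorProduct.add_tmul, map_add, hp, hq]
    | add a c ha hc => simp [ha, hc]
  rw [cfMap_apply, h1]
  have h := LinearMap.congr_fun (HopfRep.Comod.coassoc (k := k) (A := C) (V := V)) v
  simp only [LinearMap.comp_apply, LinearEquiv.coe_coe] at h
  rw [← h]
  exact h2 _

theorem counit_cfMap (φ : Module.Dual k V) (v : V) :
    Coalgebra.counit (R := k) (cfMap (C := C) φ v) = φ v := by
  have h : ∀ x : V ⊗[k] C, Coalgebra.counit (R := k) (TensorProduct.lid k C (φ.rTensor C x)) =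
      φ (TensorProduct.rid k V ((Coalgebra.counit (R := k) (A := C)).lTensor V x)) := fun x => by
    induction x using TensorProduct.induction_on with
    | zero => simp
    | tmul a c => simp [mul_comm]
    | add a c ha hc => simp [ha, hc]
  rw [cfMap_apply, h]
  exact congrArg φ (Comod.op_counit v)

/-- every comodule map into the coalgebra is a matrix coefficient map -/
theorem eq_cfMap {g : V →ₗ[k] C} (hg : Hoch.IsComodHom C g) :
    g = cfMap ((Coalgebra.counit (R := k) (A := C)) ∘ₗ g) := by
  refine LinearMap.ext fun v => ?_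
  rw [cfMap_apply, LinearMap.rTensor_comp, LinearMap.comp_apply, ← IsComodHom.apply hg]
  change g v = TensorProduct.lid k C
    ((Coalgebra.counit (R := k) (A := C)).rTensor C (Coalgebra.comul (R := k) (g v)))
  rw [Coalgebra.rTensor_counit_comul, TensorProduct.lid_tmul, one_smul]

variable (k C V) in
/-- the coefficient space -/
noncomputable def coeff : Submodule k C :=
  ⨆ φ : Module.Dual k V, LinearMap.range (cfMap (C := C) φ)

theorem cfMap_mem_coeff (φ : Module.Dual k V) (v : V) : cfMap φ v ∈ coeff k C V :=
  Submodule.mem_iSup_of_mem φ ⟨v, rfl⟩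

theorem range_le_coeff {g : V →ₗ[k] C} (hg : Hoch.IsComodHom C g) :
    LinearMap.range g ≤ coeff k C V := by
  rw [eq_cfMap hg]
  exact le_iSup (fun φ : Module.Dual k V => LinearMap.range (cfMap (C := C) φ)) _

theorem coact_mem_coeff (v : V) : ρ v ∈ LinearMap.range ((coeff k C V).subtype.lTensor V) := by
  refine ((lTensor_exact V (LinearMap.exact_subtype_mkQ (coeff k C V))
    (Submodule.mkQ_surjective _)) _).1 (ext_dual_left fun φ => ?_)
  have h : ∀ x : V ⊗[k] C, TensorProduct.lid k (C ⧸ coeff k C V)
      (φ.rTensor _ ((coeff k C V).mkQ.lTensor V x)) =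
      (coeff k C V).mkQ (TensorProduct.lid k C (φ.rTensor C x)) := fun x => by
    induction x using TensorProduct.induction_on with
    | zero => simp
    | tmul a c => simp
    | add a c ha hc => simp [ha, hc]
  rw [h, map_zero, map_zero]
  exact (Submodule.Quotient.mk_eq_zero _).2 (cfMap_mem_coeff φ v)

theorem coeff_le {D : Submodule k C} (h : ∀ v : V, ρ v ∈ LinearMap.range (D.subtype.lTensor V)) :
    coeff k C V ≤ D := by
  refine iSup_le fun φ => ?_
  rintro _ ⟨v, rfl⟩
  obtain ⟨x, hx⟩ := h v
  rw [cfMap_apply, ← hx]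
  clear hx
  induction x using TensorProduct.induction_on with
  | zero => simp
  | tmul a d => simpa using D.smul_mem (φ a) d.2
  | add a b ha hb => simpa only [map_add] using D.add_mem ha hb

theorem isLeast_coeff :
    IsLeast {D : Submodule k C | ∀ v : V, ρ v ∈ LinearMap.range (D.subtype.lTensor V)}
      (coeff k C V) :=
  ⟨coact_mem_coeff, fun _ h => coeff_le h⟩

theorem isSubcoalg_coeff : IsSubcoalg (coeff k C V) := by
  intro b hb
  induction hb using Submodule.iSup_induction' with
  | mem φ b hb =>
    obtain ⟨v, rfl⟩ := hb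
    have h : Coalgebra.comul (R := k) (cfMap φ v) = (cfMap (C := C) φ).rTensor C (ρ v) :=
      IsComodHom.apply (isComodHom_cfMap φ) v
    obtain ⟨x, hx⟩ := coact_mem_coeff (k := k) (C := C) v
    change Coalgebra.comul (R := k) (cfMap φ v) ∈ _
    rw [h, ← hx]
    clear hx h
    induction x using TensorProduct.induction_on with
    | zero => simp
    | tmul a d => exact ⟨⟨_, cfMap_mem_coeff φ a⟩ ⊗ₜ d, by simp⟩
    | add a b ha hb => simpa only [map_add] using Submodule.add_mem _ ha hb
  | zero => rw [map_zero]; exact zero_mem _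
  | add a b _ _ ha hb => rw [map_add]; exact add_mem ha hb

theorem coeff_le_of_injective {g : V →ₗ[k] W} (hg : Hoch.IsComodHom C g)
    (hinj : Function.Injective g) : coeff k C V ≤ coeff k C W := by
  obtain ⟨r, hr⟩ := g.exists_leftInverse_of_injective (LinearMap.ker_eq_bot.2 hinj)
  refine iSup_le fun φ => ?_
  rintro _ ⟨v, rfl⟩
  have : cfMap φ v = cfMap (C := C) (φ ∘ₗ r) (g v) := by
    rw [cfMap_apply, cfMap_apply, IsComodHom.apply hg, ← LinearMap.comp_apply (φ ∘ₗ r |>.rTensor C),
      ← LinearMap.rTensor_comp, LinearMap.comp_assoc, hr, LinearMap.comp_id]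
  rw [this]
  exact cfMap_mem_coeff _ _

theorem coeff_le_of_surjective {g : V →ₗ[k] W} (hg : Hoch.IsComodHom C g)
    (hsurj : Function.Surjective g) : coeff k C W ≤ coeff k C V := by
  refine iSup_le fun φ => ?_
  rintro _ ⟨w, rfl⟩
  obtain ⟨v, rfl⟩ := hsurj w
  rw [cfMap_apply, IsComodHom.apply hg, ← LinearMap.comp_apply (φ.rTensor C), ← LinearMap.rTensor_comp]
  exact cfMap_mem_coeff _ v

theorem coeff_finite [Module.Finite k V] : Module.Finite k (coeff k C V) := by
  let b : Module.Dual k V →ₗ[k] V →ₗ[k] C :=
    { toFun := cfMap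
      map_add' := fun φ ψ => LinearMap.ext fun v => by simp [cfMap, LinearMap.rTensor_add]
      map_smul' := fun c φ => LinearMap.ext fun v => by simp [cfMap, LinearMap.rTensor_smul] }
  have hle : coeff k C V ≤ LinearMap.range (TensorProduct.lift b) := by
    refine iSup_le fun φ => ?_
    rintro _ ⟨v, rfl⟩
    exact ⟨φ ⊗ₜ v, rfl⟩
  exact Submodule.finiteDimensional_of_le hle

/-- a subcomodule of `C` sits inside its coefficient space, and inside any subcoalgebra its
coefficient space does too -/
theorem le_coeff_restr {U : Submodule k C} (hU : IsSubcomod (k := k) (A := C) U) :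
    U ≤ @coeff k _ C _ _ _ U _ _ (ComodSub.Comod.restr (HopfRep.Comod.regular k C) U hU) := by
  let _ := ComodSub.Comod.restr (HopfRep.Comod.regular k C) U hU
  have := range_le_coeff (C := C) (ComodSub.isComodHom_subtype (HopfRep.Comod.regular k C) U hU)
  rwa [Submodule.range_subtype] at this

theorem coeff_restr_le {B U : Submodule k C} (hB : IsSubcoalg B)
    (hU : IsSubcomod (k := k) (A := C) U) (hle : U ≤ B) :
    @coeff k _ C _ _ _ U _ _ (ComodSub.Comod.restr (HopfRep.Comod.regular k C) U hU) ≤ B := by
  let _ := ComodSub.Comod.restr (HopfRep.Comod.regular k C) U hU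
  refine iSup_le fun φ => ?_
  rintro _ ⟨u, rfl⟩
  obtain ⟨ψ, hψ⟩ := φ.exists_extend
  obtain ⟨x, hx⟩ := hB u (hle u.2)
  have hc : U.subtype.rTensor C ((HopfRep.Comod.coact (k := k) (A := C)) u) =
      Coalgebra.comul (R := k) (u : C) :=
    ComodSub.restr_coact_coe (HopfRep.Comod.regular k C) U hU u
  rw [cfMap_apply, ← hψ, LinearMap.rTensor_comp, LinearMap.comp_apply, hc]
  rw [show (Coalgebra.comul (R := k) (u : C)) = TensorProduct.map B.subtype B.subtype x from hx.symm]
  clear hx hc
  induction x using TensorProduct.induction_on with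
  | zero => simp
  | tmul a d => simpa using B.smul_mem (ψ a) d.2
  | add a b ha hb => simpa only [map_add] using B.add_mem ha hb

/-- every element lies in a finite-dimensional subcoalgebra -/
theorem exists_finite_subcoalg (U : Submodule k C) (hfin : Module.Finite k U)
    (hU : IsSubcomod (k := k) (A := C) U) :
    ∃ B : Submodule k C, Module.Finite k B ∧ U ≤ B ∧ IsSubcoalg B := by
  let _ := ComodSub.Comod.restr (HopfRep.Comod.regular k C) U hU
  exact ⟨coeff k C U, coeff_finite, le_coeff_restr hU, isSubcoalg_coeff⟩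

theorem coeff_ne_bot [Nontrivial V] : coeff k C V ≠ ⊥ := by
  intro h
  obtain ⟨v, hv⟩ := exists_ne (0 : V)
  refine hv ((Module.forall_dual_apply_eq_zero_iff k v).1 fun φ => ?_)
  rw [← counit_cfMap (C := C) φ v]
  have := cfMap_mem_coeff (C := C) φ v
  rw [h, Submodule.mem_bot] at this
  rw [this, map_zero]

/-- the coefficient space is the isotypic component of a simple comodule in the coalgebra -/
theorem toSub_coeff_eq (hV : IsSimpleComod k C V) :
    toSub (coeff k C V) (isSubcoalg_coeff).isSubcomod =
      isotypicComponent (OpAlg k C) (AsMod k C C) (AsMod k C V) := by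
  haveI := isSimpleComod_iff.1 hV
  refine le_antisymm ?_ (sSup_le ?_)
  · refine ofSub_mono.1 ?_
    rw [ofSub_toSub]
    refine iSup_le fun φ => ?_
    rw [← ofSub_range (cfMap φ) (isComodHom_cfMap φ)]
    refine ofSub_mono.2 ?_
    rcases LinearMap.injective_or_eq_zero (toHom (cfMap (C := C) φ) (isComodHom_cfMap φ)) with h | h
    · exact le_sSup ⟨(LinearEquiv.ofInjective _ h).symm⟩
    · rw [h, LinearMap.range_zero]; exact bot_le
  · rintro N ⟨e⟩
    have hr : LinearMap.range (N.subtype ∘ₗ e.symm.toLinearMap) = N := by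
      rw [LinearMap.range_comp, LinearEquiv.range, Submodule.map_top, Submodule.range_subtype]
    refine ofSub_mono.1 (le_trans (le_of_eq ?_) (range_le_coeff (isComodHom_ofHom (N.subtype ∘ₗ e.symm.toLinearMap))))
    conv_lhs => rw [← hr]
    rfl

/-- the coefficient space of a simple comodule is a simple subcoalgebra -/
theorem coeff_simple (hV : IsSimpleComod k C V) (B : Submodule k C) (hle : B ≤ coeff k C V)
    (hB : IsSubcoalg B) : B = ⊥ ∨ B = coeff k C V := by
  refine or_iff_not_imp_left.2 fun hne => le_antisymm hle ?_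
  obtain ⟨S, hSB, hS⟩ := exists_simpleSub_le hB.isSubcomod hne
  haveI := isSimpleComod_iff.1 hV
  haveI := (isSimpleSub_iff hS.1).1 hS
  have hcomp : toSub S hS.1 ≤ isotypicComponent (OpAlg k C) (AsMod k C C) (AsMod k C V) := by
    rw [← toSub_coeff_eq hV]
    exact toSub_mono.2 (hSB.trans hle)
  haveI : ∀ m : {m : Submodule (OpAlg k C) (AsMod k C C) | Nonempty (m ≃ₗ[OpAlg k C] AsMod k C V)},
      IsSimpleModule (OpAlg k C) m := fun m => IsSimpleModule.congr m.2.some
  obtain ⟨m, hm, ⟨e⟩⟩ := (toSub S hS.1).linearEquiv_of_le_sSup _ hcomp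
  let _ := ComodSub.Comod.restr (HopfRep.Comod.regular k C) S hS.1
  let F := ((hm.some.symm.trans e.symm).trans (restrEquiv (HopfRep.Comod.regular k C) S hS.1).symm)
  exact (coeff_le_of_injective (isComodHom_ofHom F.toLinearMap) F.injective).trans
    (coeff_restr_le hB hS.1 hSB)

end GrothLib.Comodule
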