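import Groth.Agent.Lib.Comod.Module
import Mathlib.LinearAlgebra.FiniteDimensional.Basic

/-!
# Finiteness, simple and semisimple comodules over a field
-/

universe u v w w'

open TensorProduct HopfRep GrothLib.Hopf

namespace GrothLib.Comodule

variable {k : Type u} [Field k] {C : Type v} [AddCommGroup C] [Module k C] [Coalgebra k C]
  {V : Type w} [AddCommGroup V] [Module k V]

section

variable [HopfRep.Comod k C V]

theorem exists_finite_subcomod (v : V) :
    ∃ U : Submodule k V, Module.Finite k U ∧ v ∈ U ∧ IsSubcomod (k := k) (A := C) U := by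
  obtain ⟨U, hU, hle, -, hfg⟩ := Comod.exists_smallest (k := k) (C := C) (Submodule.span k {v})
  exact ⟨U, Module.Finite.iff_fg.2 (hfg (Submodule.fg_span_singleton v)),
    hle (Submodule.mem_span_singleton_self v), hU⟩

theorem finite_of_isSimpleComod (hV : IsSimpleComod k C V) : Module.Finite k V := by
  obtain ⟨hne, h⟩ := hV
  obtain ⟨v, hv⟩ := exists_ne (0 : V)
  obtain ⟨U, hfin, hvU, hU⟩ := exists_finite_subcomod (k := k) (C := C) v
  rcases h U hU with rfl | rfl
  · exact absurd ((Submodule.mem_bot k).1 hvU) hv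
  · exact Module.Finite.equiv Submodule.topEquiv

/-- a subcomodule with no proper nonzero subcomodules -/
def IsSimpleSub (U : Submodule k V) : Prop :=
  IsSubcomod (k := k) (A := C) U ∧ U ≠ ⊥ ∧
    ∀ U' : Submodule k V, IsSubcomod (k := k) (A := C) U' → U' ≤ U → U' = ⊥ ∨ U' = U

theorem isSimpleSub_iff {U : Submodule k V} (hU : IsSubcomod (k := k) (A := C) U) :
    IsSimpleSub (C := C) U ↔ IsSimpleModule (OpAlg k C) (toSub U hU) := by
  rw [isSimpleModule_iff_isAtom]
  refine ⟨fun ⟨_, hne, h⟩ => ⟨fun e => hne (toSub_eq_bot.1 e), fun N hN => ?_⟩, fun h => ⟨hU, fun e => h.1 (toSub_eq_bot.2 e), fun U' hU' hle => ?_⟩⟩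
  · rcases h (ofSub N) (isSubcomod_ofSub N) hN.le with e | e
    · exact ofSub_injective (e.trans ofSub_bot.symm)
    · exact absurd (ofSub_injective (e.trans (ofSub_toSub U hU).symm)) hN.ne
  · rcases (h.le_iff (x := toSub U' hU')).1 hle with e | e
    · exact Or.inl (toSub_eq_bot.1 e)
    · exact Or.inr (by rw [← ofSub_toSub U' hU', e, ofSub_toSub])

theorem exists_simpleSub_le {U : Submodule k V} (hU : IsSubcomod (k := k) (A := C) U) (hne : U ≠ ⊥) :
    ∃ S ≤ U, IsSimpleSub (C := C) S := by
  classical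
  obtain ⟨v, hvU, hv⟩ := (Submodule.ne_bot_iff U).1 hne
  obtain ⟨U₀, hfin, hvU₀, hU₀⟩ := exists_finite_subcomod (k := k) (C := C) v
  have hex : ∃ n, ∃ S : Submodule k V, S ≤ U ⊓ U₀ ∧ IsSubcomod (k := k) (A := C) S ∧ S ≠ ⊥ ∧
      Module.finrank k S = n :=
    ⟨_, _, le_rfl, isSubcomod_inf hU hU₀, (Submodule.ne_bot_iff _).2 ⟨v, ⟨hvU, hvU₀⟩, hv⟩, rfl⟩
  obtain ⟨S, hle, hS, hSne, hSn⟩ := Nat.find_spec hex
  refine ⟨S, hle.trans inf_le_left, hS, hSne, fun S' hS' hle' => or_iff_not_imp_left.2 fun hne' => ?_⟩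
  have hSfin : FiniteDimensional k S := Submodule.finiteDimensional_of_le (hle.trans inf_le_right)
  refine Submodule.eq_of_le_of_finrank_le hle' ?_
  rw [hSn]
  exact Nat.find_le ⟨S', hle'.trans hle, hS', hne', rfl⟩

end

/-! ### Restriction and quotient -/

section

variable (c : HopfRep.Comod k C V) (U : Submodule k V) (hU : IsSubcomod (k := k) (A := C) U)

/-- the restricted comodule as a submodule -/
noncomputable def restrEquiv :
    letI := ComodSub.Comod.restr c U hU
    AsMod k C U ≃ₗ[OpAlg k C] toSub U hU :=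
  letI := ComodSub.Comod.restr c U hU
  (LinearEquiv.ofInjective (toHom U.subtype (ComodSub.isComodHom_subtype c U hU))
    (toHom_injective _ U.injective_subtype)).trans
    (LinearEquiv.ofEq _ _ (ofSub_injective
      ((ofSub_range _ _).trans ((Submodule.range_subtype U).trans (ofSub_toSub U hU).symm))))

theorem isSimpleSub_iff_restr :
    IsSimpleSub (C := C) U ↔ @IsSimpleComod k C _ _ _ _ U _ _ (ComodSub.Comod.restr c U hU) := by
  letI := ComodSub.Comod.restr c U hU
  rw [isSimpleSub_iff hU, isSimpleComod_iff, (restrEquiv c U hU).isSimpleModule_iff]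

theorem semisimple_restr (h : IsSemisimpleComod k C V) :
    @IsSemisimpleComod k C _ _ _ _ U _ _ (ComodSub.Comod.restr c U hU) := by
  letI := ComodSub.Comod.restr c U hU
  haveI := isSemisimpleComod_iff.1 h
  exact isSemisimpleComod_iff.2 (IsSemisimpleModule.of_injective _
    (toHom_injective (ComodSub.isComodHom_subtype c U hU) U.injective_subtype))

theorem semisimple_quot (h : IsSemisimpleComod k C V) :
    @IsSemisimpleComod k C _ _ _ _ (V ⧸ U) _ _ (ComodSub.Comod.quot c U hU) := by
  letI := ComodSub.Comod.quot c U hU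
  haveI := isSemisimpleComod_iff.1 h
  exact isSemisimpleComod_iff.2 (IsSemisimpleModule.of_surjective _
    (toHom_surjective (ComodSub.isComodHom_mkQ c U hU) U.mkQ_surjective))

end

variable [HopfRep.Comod k C V]

theorem sSup_simpleSub_eq_top (h : IsSemisimpleComod k C V) :
    (⨆ U : {U : Submodule k V // IsSimpleSub (C := C) U}, (U : Submodule k V)) = ⊤ := by
  haveI := isSemisimpleComod_iff.1 h
  rw [eq_top_iff, ← ofSub_top (k := k) (C := C) (V := V),
    ← IsSemisimpleModule.sSup_simples_eq_top (OpAlg k C) (AsMod k C V), sSup_eq_iSup', ofSub_iSup]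
  refine iSup_le fun N => le_iSup_of_le ⟨ofSub N.1, ?_⟩ le_rfl
  exact (isSimpleSub_iff (isSubcomod_ofSub N.1)).2 N.2

theorem semisimple_of_iSup {ι : Type*} {S : ι → Submodule k V}
    (hS : ∀ i, IsSimpleSub (C := C) (S i)) (hsum : ⨆ i, S i = ⊤) : IsSemisimpleComod k C V := by
  rw [isSemisimpleComod_iff]
  have (i : ι) : IsSimpleModule (OpAlg k C) (toSub (S i) (hS i).1) :=
    (isSimpleSub_iff (hS i).1).1 (hS i)
  refine isSemisimpleModule_of_isSemisimpleModule_submodule' (p := fun i => toSub (S i) (hS i).1)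
    (fun i => inferInstance) (ofSub_injective ?_)
  rw [ofSub_iSup, ofSub_top]
  exact hsum

end GrothLib.Comodule
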