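import Groth.Agent.Lib.Comod.Semi

/-!
# Reynolds operators of linearly reductive bialgebras, comodules of any dimension
-/

universe u w

open TensorProduct HopfRep

namespace GrothLib.Comodule.Reynolds

variable {k : Type u} [Field k] {A : Type u} [CommRing A] [Bialgebra k A]
  {V : Type u} [AddCommGroup V] [Module k V] [Comod k A V]

local notation "ρ" => (HopfRep.Comod.coact (k := k) (A := A))

theorem mem_fixedPts_iff {v : V} : v ∈ fixedPts k A V ↔ ρ v = v ⊗ₜ[k] (1 : A) := Iff.rfl

theorem isSubcomod_fixedPts : IsSubcomod (k := k) (A := A) (fixedPts k A V) := fun v hv =>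
  ⟨⟨v, hv⟩ ⊗ₜ[k] (1 : A), by rw [LinearMap.rTensor_tmul]; exact hv.symm⟩

/-- Inside a subcomodule of finite dimension, subcomodules have complements. -/
theorem exists_compl (hG : IsLinearlyReductive k A) {U S : Submodule k V}
    (hU : IsSubcomod (k := k) (A := A) U) [Module.Finite k U] (hS : IsSubcomod (k := k) (A := A) S)
    (hle : S ≤ U) :
    ∃ T : Submodule k V, IsSubcomod (k := k) (A := A) T ∧ T ≤ U ∧ Disjoint S T ∧ S ⊔ T = U := by
  letI := ComodSub.Comod.restr (A := A) ‹Comod k A V› U hU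
  have hsub : Hoch.IsComodHom A U.subtype := ComodSub.isComodHom_subtype ‹Comod k A V› U hU
  obtain ⟨T', hT', hc⟩ := hG U ‹Module.Finite k U› (S.comap U.subtype)
    (IsComodHom.comap_isSubcomod hsub hS)
  have hmap : (S.comap U.subtype).map U.subtype = S := by
    rw [Submodule.map_comap_subtype, inf_eq_right.2 hle]
  refine ⟨T'.map U.subtype, IsComodHom.map_isSubcomod hsub hT', Submodule.map_subtype_le _ _, ?_, ?_⟩
  · rw [← hmap, disjoint_iff, ← Submodule.map_inf _ U.injective_subtype, hc.inf_eq_bot,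
      Submodule.map_bot]
  · conv_lhs => rw [← hmap]
    rw [← Submodule.map_sup, hc.sup_eq_top, Submodule.map_top, Submodule.range_subtype]

/-- A subcomodule without fixed vectors is killed by every map to fixed vectors. -/
theorem map_eq_zero (hG : IsLinearlyReductive k A) {W : Type w} [AddCommGroup W] [Module k W]
    [Comod k A W] {g : V →ₗ[k] W} (hg : Hoch.IsComodHom A g) {U : Submodule k V}
    (hU : IsSubcomod (k := k) (A := A) U) [Module.Finite k U] (h0 : U ⊓ fixedPts k A V = ⊥)
    (hfix : ∀ u ∈ U, g u ∈ fixedPts k A W) : ∀ u ∈ U, g u = 0 := by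
  obtain ⟨T, hT, hTU, hd, hs⟩ :=
    exists_compl hG hU (isSubcomod_inf hU (IsComodHom.ker_isSubcomod hg)) inf_le_left
  have hbot : T = ⊥ := by
    refine (Submodule.eq_bot_iff _).2 fun t ht => (Submodule.eq_bot_iff _).1 h0 t ⟨hTU ht, ?_⟩
    obtain ⟨x, hx⟩ := hT t ht
    have hinj : Function.Injective ((g ∘ₗ T.subtype).rTensor A) := by
      refine Module.Flat.rTensor_preserves_injective_linearMap _ ?_
      rw [← LinearMap.ker_eq_bot, eq_bot_iff]
      rintro ⟨y, hy⟩ hy0
      have : y ∈ (U ⊓ LinearMap.ker g) ⊓ T := ⟨⟨hTU hy, hy0⟩, hy⟩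
      rw [hd.eq_bot] at this
      simpa using (Submodule.mem_bot k).1 this
    have hx' : x = (⟨t, ht⟩ : T) ⊗ₜ[k] (1 : A) := by
      refine hinj ?_
      rw [LinearMap.rTensor_comp, LinearMap.comp_apply, LinearMap.comp_apply, hx,
        LinearMap.rTensor_tmul, LinearMap.rTensor_tmul, ← IsComodHom.apply hg]
      exact hfix t (hTU ht)
    change ρ t = t ⊗ₜ[k] (1 : A)
    rw [← hx, hx', LinearMap.rTensor_tmul]
    rfl
  intro u hu
  rw [← hs, hbot, sup_bot_eq] at hu
  exact hu.2

variable (k A V) in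
/-- The finite-dimensional subcomodules without nonzero fixed vectors. -/
def Bad : Set (Submodule k V) :=
  {U | IsSubcomod (k := k) (A := A) U ∧ Module.Finite k U ∧ U ⊓ fixedPts k A V = ⊥}

variable (k A V) in
/-- The part of a comodule without fixed vectors. -/
def movPart : Submodule k V := ⨆ U : Bad k A V, (U : Submodule k V)

theorem isSubcomod_movPart : IsSubcomod (k := k) (A := A) (movPart k A V) :=
  isSubcomod_iSup fun U => U.2.1

theorem decomp (hG : IsLinearlyReductive k A) {U : Submodule k V}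
    (hU : IsSubcomod (k := k) (A := A) U) {v : V} (hv : v ∈ U) :
    ∃ f w : V, v = f + w ∧ f ∈ U ∧ f ∈ fixedPts k A V ∧ w ∈ U ∧ w ∈ movPart k A V := by
  obtain ⟨U₀, hfin, hv₀, hU₀⟩ := exists_finite_subcomod (k := k) (C := A) v
  haveI : FiniteDimensional k ↥(U ⊓ U₀) :=
    haveI := hfin; Submodule.finiteDimensional_of_le inf_le_right
  obtain ⟨T, hT, hTU, hd, hs⟩ := exists_compl hG (isSubcomod_inf hU hU₀)
    (isSubcomod_inf (isSubcomod_inf hU hU₀) isSubcomod_fixedPts) inf_le_left
  have hv' : v ∈ U ⊓ U₀ ⊓ fixedPts k A V ⊔ T := by rw [hs]; exact ⟨hv, hv₀⟩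
  obtain ⟨f, hf, w, hw, rfl⟩ := Submodule.mem_sup.1 hv'
  have hbad : T ∈ Bad k A V := by
    refine ⟨hT, Submodule.finiteDimensional_of_le hTU, (Submodule.eq_bot_iff _).2 ?_⟩
    rintro t ⟨ht, htf⟩
    have : t ∈ (U ⊓ U₀ ⊓ fixedPts k A V) ⊓ T := ⟨⟨hTU ht, htf⟩, ht⟩
    rw [hd.eq_bot] at this
    exact (Submodule.mem_bot k).1 this
  exact ⟨f, w, rfl, hf.1.1, hf.2, (hTU hw).1,
    Submodule.mem_iSup_of_mem (⟨T, hbad⟩ : Bad k A V) hw⟩

/-- A map to fixed vectors kills the moving part. -/
theorem map_movPart (hG : IsLinearlyReductive k A) {W : Type w} [AddCommGroup W] [Module k W]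
    [Comod k A W] {g : V →ₗ[k] W} (hg : Hoch.IsComodHom A g) (hfix : ∀ v, g v ∈ fixedPts k A W)
    {v : V} (hv : v ∈ movPart k A V) : g v = 0 := by
  have : movPart k A V ≤ LinearMap.ker g := iSup_le fun ⟨U, hU, hfin, h0⟩ u hu => by
    haveI := hfin
    exact map_eq_zero hG hg hU h0 (fun x _ => hfix x) u hu
  exact this hv

theorem disjoint_movPart (hG : IsLinearlyReductive k A) :
    Disjoint (fixedPts k A V) (movPart k A V) := by
  classical
  rw [disjoint_iff, Submodule.eq_bot_iff]
  rintro v ⟨hvf, hvm⟩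
  obtain ⟨s, hs⟩ := Submodule.exists_finset_of_mem_iSup _ hvm
  let U : Submodule k V := ⨆ i ∈ s, (i : Submodule k V)
  have hU : IsSubcomod (k := k) (A := A) U := isSubcomod_iSup fun i => isSubcomod_iSup fun _ => i.2.1
  haveI : FiniteDimensional k U := by
    haveI : ∀ i : ↥s, FiniteDimensional k ((i : Bad k A V) : Submodule k V) := fun i => i.1.2.2.1
    have : U = ⨆ i : ↥s, ((i : Bad k A V) : Submodule k V) := (iSup_subtype'' (s : Set (Bad k A V)) _).symm
    rw [this]
    infer_instance
  obtain ⟨T, hT, hTU, hd, hsup⟩ := exists_compl hG hU (isSubcomod_inf hU isSubcomod_fixedPts) inf_le_left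
  letI := ComodSub.Comod.quot (A := A) ‹Comod k A V› T hT
  have hq : Hoch.IsComodHom A T.mkQ := ComodSub.isComodHom_mkQ ‹Comod k A V› T hT
  have hfixU : ∀ u ∈ U, T.mkQ u ∈ fixedPts k A (V ⧸ T) := by
    intro u hu
    rw [← hsup] at hu
    obtain ⟨a, ha, b, hb, rfl⟩ := Submodule.mem_sup.1 hu
    rw [map_add, (show T.mkQ b = 0 from (Submodule.Quotient.mk_eq_zero T).2 hb), add_zero,
      mem_fixedPts_iff, IsComodHom.apply hq, mem_fixedPts_iff.1 ha.2, LinearMap.rTensor_tmul]
  have hUT : U ≤ T := iSup₂_le fun i hi u hu => by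
    haveI : Module.Finite k ((i : Bad k A V) : Submodule k V) := i.2.2.1
    have := map_eq_zero hG hq i.2.1 i.2.2.2
      (fun x hx => hfixU x (le_iSup₂ (f := fun (j : Bad k A V) (_ : j ∈ s) => (j : Submodule k V)) i hi hx)) u hu
    exact (Submodule.Quotient.mk_eq_zero T).1 this
  have : v ∈ (U ⊓ fixedPts k A V) ⊓ T := ⟨⟨hs, hvf⟩, hUT hs⟩
  rw [hd.eq_bot] at this
  exact (Submodule.mem_bot k).1 this

theorem isCompl_movPart (hG : IsLinearlyReductive k A) :
    IsCompl (fixedPts k A V) (movPart k A V) := by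
  refine ⟨disjoint_movPart hG, codisjoint_iff.2 (eq_top_iff.2 fun v _ => ?_)⟩
  obtain ⟨f, w, rfl, -, hf, -, hw⟩ := decomp hG (isSubcomod_top (C := A)) (Submodule.mem_top (x := v))
  exact Submodule.add_mem_sup hf hw

/-- The Reynolds operator: the projection onto the fixed vectors along the moving part. -/
noncomputable def reynolds (hG : IsLinearlyReductive k A) : V →ₗ[k] V :=
  Submodule.projection _ _ (isCompl_movPart (k := k) (A := A) (V := V) hG)

theorem reynolds_mem (hG : IsLinearlyReductive k A) (v : V) : reynolds hG v ∈ fixedPts k A V :=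
  Submodule.projection_apply_mem _ v

theorem reynolds_fixed (hG : IsLinearlyReductive k A) {v : V} (hv : v ∈ fixedPts k A V) :
    reynolds hG v = v :=
  Submodule.projection_apply_left _ ⟨v, hv⟩

theorem reynolds_mov (hG : IsLinearlyReductive k A) {v : V} (hv : v ∈ movPart k A V) :
    reynolds hG v = 0 :=
  (Submodule.projection_apply_eq_zero_iff _).2 hv

/-- The Reynolds operator preserves every subcomodule. -/
theorem reynolds_mem_sub (hG : IsLinearlyReductive k A) {U : Submodule k V}
    (hU : IsSubcomod (k := k) (A := A) U) {v : V} (hv : v ∈ U) : reynolds hG v ∈ U := by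
  obtain ⟨f, w, rfl, hfU, hf, -, hw⟩ := decomp hG hU hv
  rwa [map_add, reynolds_fixed hG hf, reynolds_mov hG hw, add_zero]

theorem isComodHom_reynolds (hG : IsLinearlyReductive k A) :
    Hoch.IsComodHom A (reynolds (V := V) hG) := by
  refine LinearMap.ext fun v => ?_
  obtain ⟨f, w, rfl, -, hf, -, hw⟩ := decomp hG (isSubcomod_top (C := A)) (Submodule.mem_top (x := v))
  simp only [LinearMap.comp_apply, map_add]
  rw [reynolds_fixed hG hf, reynolds_mov hG hw, map_zero, add_zero, mem_fixedPts_iff.1 hf,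
    LinearMap.rTensor_tmul, reynolds_fixed hG hf]
  obtain ⟨x, hx⟩ := isSubcomod_movPart w hw
  rw [← hx, ← LinearMap.rTensor_comp_apply,
    show reynolds (V := V) hG ∘ₗ (movPart k A V).subtype = 0 from
      LinearMap.ext fun y => reynolds_mov hG y.2, LinearMap.rTensor_zero, LinearMap.zero_apply, add_zero]

/-- The Reynolds operators are natural. -/
theorem reynolds_comm (hG : IsLinearlyReductive k A) {W : Type u} [AddCommGroup W] [Module k W]
    [Comod k A W] {g : V →ₗ[k] W} (hg : Hoch.IsComodHom A g) (v : V) :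
    reynolds hG (g v) = g (reynolds hG v) := by
  obtain ⟨f, w, rfl, -, hf, -, hw⟩ := decomp hG (isSubcomod_top (C := A)) (Submodule.mem_top (x := v))
  have hgf : g f ∈ fixedPts k A W := by
    rw [mem_fixedPts_iff, IsComodHom.apply hg, mem_fixedPts_iff.1 hf, LinearMap.rTensor_tmul]
  have hgw : reynolds hG (g w) = 0 :=
    map_movPart hG (IsComodHom.comp (isComodHom_reynolds hG) hg) (fun x => reynolds_mem hG (g x)) hw
  rw [map_add, map_add, map_add, map_add, reynolds_fixed hG hf, reynolds_mov hG hw, hgw,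
    reynolds_fixed hG hgf, map_zero]

/-- A Reynolds operator in the abstract sense is the projection along the moving part. -/
theorem eq_reynolds (hG : IsLinearlyReductive k A) {E : V →ₗ[k] V} (h₁ : Hoch.IsComodHom A E)
    (h₂ : E ∘ₗ E = E) (h₃ : ∀ x : V, E x = x ↔ x ∈ fixedPts k A V) : E = reynolds hG := by
  refine LinearMap.ext fun v => ?_
  obtain ⟨f, w, rfl, -, hf, -, hw⟩ := decomp hG (isSubcomod_top (C := A)) (Submodule.mem_top (x := v))
  rw [map_add, map_add, (h₃ f).2 hf, reynolds_fixed hG hf, reynolds_mov hG hw,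
    map_movPart hG h₁ (fun x => (h₃ (E x)).1 (LinearMap.congr_fun h₂ x)) hw]

end GrothLib.Comodule.Reynolds
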