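import Groth.Agent.Lib.Comod.Basic
import Mathlib.RingTheory.Coalgebra.Hom
import Mathlib.LinearAlgebra.TensorProduct.Basis
import Mathlib.RingTheory.Flat.Basic

/-!
# Comodules along a morphism of coalgebras
-/

universe u v v' w

open TensorProduct HopfRep

namespace GrothLib.Comodule

variable {k : Type u} [Field k] {C : Type v} [AddCommGroup C] [Module k C] [Coalgebra k C]
  {D : Type v'} [AddCommGroup D] [Module k D] [Coalgebra k D]
  {V : Type w} [AddCommGroup V] [Module k V]

/-- joint injectivity of the projections to a family of quotients, after tensoring -/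
theorem rTensor_mkQ_iInf_eq_zero {ι : Sort*} (K : ι → Submodule k V) {N : Type*} [AddCommGroup N]
    [Module k N] {x : V ⊗[k] N} (h : ∀ i, (K i).mkQ.rTensor N x = 0) :
    (⨅ i, K i).mkQ.rTensor N x = 0 := by
  classical
  let b := Module.Free.chooseBasis k N
  have key : ∀ (P : Submodule k V) (y : V ⊗[k] N) (a),
      TensorProduct.equivFinsuppOfBasisRight b (P.mkQ.rTensor N y) a =
        P.mkQ (TensorProduct.equivFinsuppOfBasisRight b y a) := fun P y a => by
    induction y using TensorProduct.induction_on with
    | zero => simp
    | tmul m c => simp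
    | add m c hm hc => simp [hm, hc]
  refine (TensorProduct.equivFinsuppOfBasisRight b).injective (Finsupp.ext fun a => ?_)
  rw [key, map_zero, Finsupp.zero_apply, Submodule.mkQ_apply, Submodule.Quotient.mk_eq_zero,
    Submodule.mem_iInf]
  intro i
  rw [← Submodule.Quotient.mk_eq_zero, ← Submodule.mkQ_apply, ← key, h i, map_zero,
    Finsupp.zero_apply]

theorem isSubcomod_iInf [HopfRep.Comod k C V] {ι : Sort*} {K : ι → Submodule k V}
    (h : ∀ i, IsSubcomod (k := k) (A := C) (K i)) : IsSubcomod (k := k) (A := C) (⨅ i, K i) := by
  rw [isSubcomod_iff_mkQ]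
  intro v hv
  exact rTensor_mkQ_iInf_eq_zero K fun i => (isSubcomod_iff_mkQ.1 (h i)) v (Submodule.mem_iInf _ |>.1 hv i)

theorem lTensor_injective {i : C →ₗc[k] D} (hi : Function.Injective i) (V : Type*) [AddCommGroup V]
    [Module k V] : Function.Injective ((i : C →ₗ[k] D).lTensor V) :=
  Module.Flat.lTensor_preserves_injective_linearMap _ hi

section push

variable [HopfRep.Comod k C V] (i : C →ₗc[k] D)

/-- push forward of a comodule structure along a morphism of coalgebras -/
@[reducible]
noncomputable def pushAlong : HopfRep.Comod k D V where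
  coact := (i : C →ₗ[k] D).lTensor V ∘ₗ HopfRep.Comod.coact (k := k) (A := C)
  coassoc := by
    refine LinearMap.ext fun v => ?_
    have h := LinearMap.congr_fun (HopfRep.Comod.coassoc (k := k) (A := C) (V := V)) v
    simp only [LinearMap.comp_apply, LinearEquiv.coe_coe] at h ⊢
    have h1 : ∀ x : (V ⊗[k] C), TensorProduct.assoc k V D D
        (LinearMap.rTensor D ((i : C →ₗ[k] D).lTensor V ∘ₗ HopfRep.Comod.coact (k := k) (A := C))
          ((i : C →ₗ[k] D).lTensor V x)) =
        (TensorProduct.map (i : C →ₗ[k] D) (i : C →ₗ[k] D)).lTensor V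
          (TensorProduct.assoc k V C C
            ((HopfRep.Comod.coact (k := k) (A := C)).rTensor C x)) := fun x => by
      induction x using TensorProduct.induction_on with
      | zero => simp
      | tmul p q =>
        simp only [LinearMap.lTensor_tmul, LinearMap.rTensor_tmul, LinearMap.comp_apply]
        induction (HopfRep.Comod.coact (k := k) (A := C) p) using TensorProduct.induction_on with
        | zero => simp
        | tmul a c => simp
        | add a c ha hc => simp only [TensorProduct.add_tmul, map_add, ha, hc]
      | add p q hp hq => simp only [map_add, hp, hq]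
    rw [h1, h]
    generalize HopfRep.Comod.coact (k := k) (A := C) v = x
    induction x using TensorProduct.induction_on with
    | zero => simp
    | tmul p q =>
      simp only [LinearMap.lTensor_tmul]
      exact congrArg (p ⊗ₜ[k] ·) (CoalgHomClass.map_comp_comul_apply i q)
    | add p q hp hq => simp only [map_add, hp, hq]
  counit_comp := by
    refine LinearMap.ext fun v => ?_
    have h := LinearMap.congr_fun (HopfRep.Comod.counit_comp (k := k) (A := C) (V := V)) v
    simp only [LinearMap.comp_apply, LinearEquiv.coe_coe, LinearMap.id_apply] at h ⊢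
    rw [← LinearMap.comp_apply, ← LinearMap.lTensor_comp]
    have he : (Coalgebra.counit (R := k) (A := D)) ∘ₗ (i : C →ₗ[k] D) =
        Coalgebra.counit (R := k) (A := C) := CoalgHomClass.counit_comp i
    rw [he]
    exact h

end push

/-- a comodule structure along an injective morphism whose image contains the coaction -/
@[reducible]
noncomputable def pullAlong [HopfRep.Comod k D V] (i : C →ₗc[k] D) (hi : Function.Injective i)
    (h : ∀ v : V, HopfRep.Comod.coact (k := k) (A := D) v ∈
      LinearMap.range ((i : C →ₗ[k] D).lTensor V)) : HopfRep.Comod k C V where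
  coact := (LinearEquiv.ofInjective _ (lTensor_injective hi V)).symm.toLinearMap ∘ₗ
    LinearMap.codRestrict _ (HopfRep.Comod.coact (k := k) (A := D)) h
  coassoc := by
    refine LinearMap.ext fun v => ?_
    refine (Module.Flat.lTensor_preserves_injective_linearMap
      (TensorProduct.map (i : C →ₗ[k] D) (i : C →ₗ[k] D)) ?_) ?_
    · rw [← LinearMap.rTensor_comp_lTensor]
      exact (Module.Flat.rTensor_preserves_injective_linearMap _ hi).comp
        (Module.Flat.lTensor_preserves_injective_linearMap _ hi)
    set c := (LinearEquiv.ofInjective _ (lTensor_injective hi V)).symm.toLinearMap ∘ₗ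
      LinearMap.codRestrict _ (HopfRep.Comod.coact (k := k) (A := D)) h with hc
    have hcv : ∀ w, (i : C →ₗ[k] D).lTensor V (c w) = HopfRep.Comod.coact (k := k) (A := D) w :=
      fun w => LinearEquiv.ofInjective_symm_apply (h := lTensor_injective hi V)
        (x := ⟨_, h w⟩)
    simp only [LinearMap.comp_apply, LinearEquiv.coe_coe]
    have h1 : ∀ x : (V ⊗[k] C), (TensorProduct.map (i : C →ₗ[k] D) (i : C →ₗ[k] D)).lTensor V
          (TensorProduct.assoc k V C C (c.rTensor C x)) =
        TensorProduct.assoc k V D D ((HopfRep.Comod.coact (k := k) (A := D)).rTensor D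
          ((i : C →ₗ[k] D).lTensor V x)) := fun x => by
      induction x using TensorProduct.induction_on with
      | zero => simp
      | tmul p q =>
        rw [LinearMap.lTensor_tmul, LinearMap.rTensor_tmul, LinearMap.rTensor_tmul, ← hcv]
        induction c p using TensorProduct.induction_on with
        | zero => simp
        | tmul a c => simp
        | add a c ha hc => simp only [TensorProduct.add_tmul, map_add, ha, hc]
      | add p q hp hq => simp only [map_add, hp, hq]
    have h2 := LinearMap.congr_fun (HopfRep.Comod.coassoc (k := k) (A := D) (V := V)) v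
    simp only [LinearMap.comp_apply, LinearEquiv.coe_coe] at h2
    rw [h1, hcv, h2, ← hcv]
    generalize c v = x
    induction x using TensorProduct.induction_on with
    | zero => simp
    | tmul p q =>
      simp only [LinearMap.lTensor_tmul]
      exact congrArg (p ⊗ₜ[k] ·) (CoalgHomClass.map_comp_comul_apply i q).symm
    | add p q hp hq => simp only [map_add, hp, hq]
  counit_comp := by
    refine LinearMap.ext fun v => ?_
    have hcv : (i : C →ₗ[k] D).lTensor V
        (((LinearEquiv.ofInjective _ (lTensor_injective hi V)).symm.toLinearMap ∘ₗ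
          LinearMap.codRestrict _ (HopfRep.Comod.coact (k := k) (A := D)) h) v) =
        HopfRep.Comod.coact (k := k) (A := D) v :=
      LinearEquiv.ofInjective_symm_apply (h := lTensor_injective hi V) (x := ⟨_, h v⟩)
    have h2 := LinearMap.congr_fun (HopfRep.Comod.counit_comp (k := k) (A := D) (V := V)) v
    simp only [LinearMap.comp_apply, LinearEquiv.coe_coe, LinearMap.id_apply] at h2 hcv ⊢
    have he : (Coalgebra.counit (R := k) (A := D)) ∘ₗ (i : C →ₗ[k] D) =
        Coalgebra.counit (R := k) (A := C) := CoalgHomClass.counit_comp i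
    rw [← he, LinearMap.lTensor_comp, LinearMap.comp_apply, hcv]
    exact h2

theorem lTensor_pullAlong [HopfRep.Comod k D V] (i : C →ₗc[k] D) (hi : Function.Injective i)
    (h : ∀ v : V, HopfRep.Comod.coact (k := k) (A := D) v ∈
      LinearMap.range ((i : C →ₗ[k] D).lTensor V)) :
    (i : C →ₗ[k] D).lTensor V ∘ₗ (pullAlong i hi h).coact =
      HopfRep.Comod.coact (k := k) (A := D) :=
  LinearMap.ext fun v =>
    LinearEquiv.ofInjective_symm_apply (h := lTensor_injective hi V) (x := ⟨_, h v⟩)

/-- along an injective morphism, the subcomodules agree -/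
theorem isSubcomod_iff_along [HopfRep.Comod k C V] [HopfRep.Comod k D V] {i : C →ₗc[k] D}
    (hi : Function.Injective i)
    (hcd : (i : C →ₗ[k] D).lTensor V ∘ₗ HopfRep.Comod.coact (k := k) (A := C) =
      HopfRep.Comod.coact (k := k) (A := D) (V := V)) (W : Submodule k V) :
    IsSubcomod (k := k) (A := C) W ↔ IsSubcomod (k := k) (A := D) W := by
  rw [isSubcomod_iff_mkQ, isSubcomod_iff_mkQ]
  refine forall₂_congr fun v _ => ?_
  rw [← hcd, LinearMap.comp_apply, ← LinearMap.comp_apply (W.mkQ.rTensor D),
    LinearMap.rTensor_comp_lTensor, ← LinearMap.lTensor_comp_rTensor, LinearMap.comp_apply]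
  exact (map_eq_zero_iff _ (lTensor_injective hi _)).symm

end GrothLib.Comodule
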