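import Groth.Agent.Lib.Hopf.Comod
import Groth.Prelude.Def_Hoch
import Mathlib.LinearAlgebra.TensorProduct.Basis
import Mathlib.LinearAlgebra.FreeModule.Basic
import Mathlib.RingTheory.TensorProduct.Free

/-!
# Comodule maps, subcomodules, and the operators `(id ⊗ f) ∘ ρ`
-/

universe u v w w' w''

open TensorProduct HopfRep GrothLib.Hopf

namespace GrothLib.Comodule

variable {k : Type u} [CommRing k] {C : Type v} [AddCommGroup C] [Module k C] [Coalgebra k C]
  {V : Type w} [AddCommGroup V] [Module k V] [HopfRep.Comod k C V]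
  {W : Type w'} [AddCommGroup W] [Module k W] [HopfRep.Comod k C W]

local notation "ρ" => (HopfRep.Comod.coact (k := k) (A := C))

theorem coact_injective : Function.Injective (ρ : V →ₗ[k] V ⊗[k] C) :=
  Function.LeftInverse.injective (g := fun x =>
    TensorProduct.rid k V ((Coalgebra.counit (R := k) (A := C)).lTensor V x)) fun v => Comod.op_counit v

theorem IsComodHom.apply {g : V →ₗ[k] W} (hg : Hoch.IsComodHom C g) (v : V) :
    ρ (g v) = g.rTensor C (ρ v) := LinearMap.congr_fun hg v

theorem isComodHom_toInd : Hoch.IsComodHom C (Hoch.toInd k C V) := by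
  refine LinearMap.ext fun v => ?_
  change (TensorProduct.assoc k V C C).symm
      ((Coalgebra.comul (R := k) (A := C)).lTensor V (ρ v)) = (ρ).rTensor C (ρ v)
  rw [LinearEquiv.symm_apply_eq]
  exact (LinearMap.congr_fun (HopfRep.Comod.coassoc (k := k) (A := C) (V := V)) v).symm

theorem isComodHom_id : Hoch.IsComodHom C (LinearMap.id : V →ₗ[k] V) := by
  rw [Hoch.IsComodHom, LinearMap.comp_id, LinearMap.rTensor_id, LinearMap.id_comp]

theorem isComodHom_zero : Hoch.IsComodHom C (0 : V →ₗ[k] W) := by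
  rw [Hoch.IsComodHom, LinearMap.comp_zero, LinearMap.rTensor_zero, LinearMap.zero_comp]

theorem IsComodHom.comp {U : Type w''} [AddCommGroup U] [Module k U] [HopfRep.Comod k C U]
    {g : W →ₗ[k] U} {f : V →ₗ[k] W} (hg : Hoch.IsComodHom C g) (hf : Hoch.IsComodHom C f) :
    Hoch.IsComodHom C (g ∘ₗ f) := LinearMap.ext fun v => by
  change ρ (g (f v)) = (g ∘ₗ f).rTensor C (ρ v)
  rw [IsComodHom.apply hg, IsComodHom.apply hf, LinearMap.rTensor_comp, LinearMap.comp_apply]

theorem IsComodHom.add {g f : V →ₗ[k] W} (hg : Hoch.IsComodHom C g) (hf : Hoch.IsComodHom C f) :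
    Hoch.IsComodHom C (g + f) := by
  unfold Hoch.IsComodHom at *
  rw [LinearMap.comp_add, LinearMap.rTensor_add, LinearMap.add_comp, hg, hf]

theorem IsComodHom.sub {g f : V →ₗ[k] W} (hg : Hoch.IsComodHom C g) (hf : Hoch.IsComodHom C f) :
    Hoch.IsComodHom C (g - f) := by
  unfold Hoch.IsComodHom at *
  rw [LinearMap.comp_sub, LinearMap.rTensor_sub, LinearMap.sub_comp, hg, hf]

theorem IsComodHom.smul {g : V →ₗ[k] W} (c : k) (hg : Hoch.IsComodHom C g) :
    Hoch.IsComodHom C (c • g) := by
  unfold Hoch.IsComodHom at *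
  rw [LinearMap.comp_smul, LinearMap.rTensor_smul, LinearMap.smul_comp, hg]

/-- being a subcomodule means dying in `(V ⧸ U) ⊗ C` -/
theorem isSubcomod_iff_mkQ {U : Submodule k V} :
    IsSubcomod (k := k) (A := C) U ↔ ∀ u ∈ U, U.mkQ.rTensor C (ρ u) = 0 :=
  forall₂_congr fun u _ =>
    ((rTensor_exact C (LinearMap.exact_subtype_mkQ U) U.mkQ_surjective) _).symm

theorem isSubcomod_bot : IsSubcomod (k := k) (A := C) (⊥ : Submodule k V) := fun u hu => by
  rw [(Submodule.mem_bot k).1 hu, map_zero]
  exact zero_mem _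

theorem isSubcomod_top : IsSubcomod (k := k) (A := C) (⊤ : Submodule k V) :=
  isSubcomod_iff_mkQ.2 fun u _ => by
    have : (⊤ : Submodule k V).mkQ = 0 := LinearMap.ext fun x => (Submodule.Quotient.mk_eq_zero _).2 trivial
    rw [this, LinearMap.rTensor_zero, LinearMap.zero_apply]

theorem range_subtype_rTensor_mono {U U' : Submodule k V} (h : U ≤ U') :
    LinearMap.range (U.subtype.rTensor C) ≤ LinearMap.range (U'.subtype.rTensor C) := by
  rw [← Submodule.subtype_comp_inclusion U U' h, LinearMap.rTensor_comp]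
  exact LinearMap.range_comp_le_range _ _

theorem isSubcomod_iSup {ι : Sort*} {U : ι → Submodule k V}
    (h : ∀ i, IsSubcomod (k := k) (A := C) (U i)) : IsSubcomod (k := k) (A := C) (⨆ i, U i) := by
  intro u hu
  induction hu using Submodule.iSup_induction' with
  | mem i u hu => exact range_subtype_rTensor_mono (le_iSup U i) (h i u hu)
  | zero => rw [map_zero]; exact zero_mem _
  | add a b _ _ ha hb => rw [map_add]; exact add_mem ha hb

theorem isSubcomod_sup {U U' : Submodule k V} (h : IsSubcomod (k := k) (A := C) U)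
    (h' : IsSubcomod (k := k) (A := C) U') : IsSubcomod (k := k) (A := C) (U ⊔ U') := by
  rw [sup_eq_iSup]
  exact isSubcomod_iSup fun b => by cases b <;> assumption

theorem IsComodHom.map_isSubcomod {g : V →ₗ[k] W} (hg : Hoch.IsComodHom C g) {U : Submodule k V}
    (hU : IsSubcomod (k := k) (A := C) U) : IsSubcomod (k := k) (A := C) (U.map g) := by
  rintro _ ⟨u, hu, rfl⟩
  obtain ⟨x, hx⟩ := hU u hu
  rw [IsComodHom.apply hg, ← hx, ← LinearMap.comp_apply, ← LinearMap.rTensor_comp]
  rw [show g ∘ₗ U.subtype = (U.map g).subtype ∘ₗ g.restrict (fun v hv => Submodule.mem_map_of_mem hv)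
    from LinearMap.ext fun _ => rfl, LinearMap.rTensor_comp, LinearMap.comp_apply]
  exact ⟨_, rfl⟩

theorem IsComodHom.range_isSubcomod {g : V →ₗ[k] W} (hg : Hoch.IsComodHom C g) :
    IsSubcomod (k := k) (A := C) (LinearMap.range g) := by
  rw [← Submodule.map_top]
  exact IsComodHom.map_isSubcomod hg isSubcomod_top

section Flat

variable [Module.Flat k C]

theorem IsComodHom.comap_isSubcomod {g : V →ₗ[k] W} (hg : Hoch.IsComodHom C g) {U : Submodule k W}
    (hU : IsSubcomod (k := k) (A := C) U) : IsSubcomod (k := k) (A := C) (U.comap g) := by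
  intro v hv
  rw [← Submodule.ker_mkQ U, ← LinearMap.ker_comp]
  refine ((Module.Flat.rTensor_exact C (LinearMap.exact_subtype_ker_map (U.mkQ ∘ₗ g))) _).1 ?_
  rw [LinearMap.rTensor_comp, LinearMap.comp_apply, ← IsComodHom.apply hg]
  exact isSubcomod_iff_mkQ.1 hU _ hv

theorem IsComodHom.ker_isSubcomod {g : V →ₗ[k] W} (hg : Hoch.IsComodHom C g) :
    IsSubcomod (k := k) (A := C) (LinearMap.ker g) :=
  IsComodHom.comap_isSubcomod hg isSubcomod_bot

theorem isSubcomod_inf {U U' : Submodule k V} (h : IsSubcomod (k := k) (A := C) U)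
    (h' : IsSubcomod (k := k) (A := C) U') : IsSubcomod (k := k) (A := C) (U ⊓ U') := by
  intro v hv
  obtain ⟨x, hx⟩ := h v hv.1
  have e : U ⊓ U' = (LinearMap.ker (U'.mkQ ∘ₗ U.subtype)).map U.subtype := by
    rw [LinearMap.ker_comp, Submodule.ker_mkQ, Submodule.map_comap_subtype]
  have hx0 : (U'.mkQ ∘ₗ U.subtype).rTensor C x = 0 := by
    rw [LinearMap.rTensor_comp, LinearMap.comp_apply, hx]
    exact isSubcomod_iff_mkQ.1 h' v hv.2
  obtain ⟨y, hy⟩ := ((Module.Flat.rTensor_exact C
    (LinearMap.exact_subtype_ker_map (U'.mkQ ∘ₗ U.subtype))) _).1 hx0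
  rw [← hx, ← hy, ← LinearMap.comp_apply, ← LinearMap.rTensor_comp, e]
  rw [show U.subtype ∘ₗ (LinearMap.ker (U'.mkQ ∘ₗ U.subtype)).subtype =
    ((LinearMap.ker (U'.mkQ ∘ₗ U.subtype)).map U.subtype).subtype ∘ₗ
      U.subtype.restrict (fun v hv => Submodule.mem_map_of_mem hv) from LinearMap.ext fun _ => rfl,
    LinearMap.rTensor_comp, LinearMap.comp_apply]
  exact ⟨_, rfl⟩

end Flat

/-! ### Free coalgebras -/

section Free

variable [Module.Free k C]

theorem ext_dual {M : Type*} [AddCommGroup M] [Module k M] {x y : M ⊗[k] C}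
    (h : ∀ f : Module.Dual k C,
      TensorProduct.rid k M (f.lTensor M x) = TensorProduct.rid k M (f.lTensor M y)) : x = y := by
  classical
  let b := Module.Free.chooseBasis k C
  refine (TensorProduct.equivFinsuppOfBasisRight b).injective (Finsupp.ext fun i => ?_)
  have key : ∀ z : M ⊗[k] C, TensorProduct.equivFinsuppOfBasisRight b z i =
      TensorProduct.rid k M ((b.coord i).lTensor M z) := fun z => by
    induction z using TensorProduct.induction_on with
    | zero => simp
    | tmul m c => simp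
    | add a c ha hc => simp [ha, hc]
  rw [key, key, h]

theorem rid_lTensor_rTensor {M N : Type*} [AddCommGroup M] [Module k M] [AddCommGroup N] [Module k N]
    (g : M →ₗ[k] N) (f : Module.Dual k C) (x : M ⊗[k] C) :
    TensorProduct.rid k N (f.lTensor N (g.rTensor C x)) = g (TensorProduct.rid k M (f.lTensor M x)) := by
  induction x using TensorProduct.induction_on with
  | zero => simp
  | tmul m c => simp
  | add a c ha hc => simp [ha, hc]

theorem isSubcomod_iff_op {U : Submodule k V} :
    IsSubcomod (k := k) (A := C) U ↔ ∀ f : Module.Dual k C, ∀ u ∈ U, Comod.op f u ∈ U := by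
  refine ⟨fun h f u hu => Comod.op_mem_of_isSubcomod h hu f, fun h => isSubcomod_iff_mkQ.2 fun u hu => ?_⟩
  refine ext_dual fun f => ?_
  rw [rid_lTensor_rTensor, map_zero, map_zero]
  exact (Submodule.Quotient.mk_eq_zero U).2 (h f u hu)

theorem isComodHom_iff_op {g : V →ₗ[k] W} :
    Hoch.IsComodHom C g ↔ ∀ (f : Module.Dual k C) (v : V), g (Comod.op f v) = Comod.op f (g v) := by
  refine ⟨fun h f v => ?_, fun h => LinearMap.ext fun v => ext_dual fun f => ?_⟩
  · change g (TensorProduct.rid k V (f.lTensor V (ρ v))) = TensorProduct.rid k W (f.lTensor W (ρ (g v)))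
    rw [IsComodHom.apply h, rid_lTensor_rTensor]
  · change _ = TensorProduct.rid k W (f.lTensor W (g.rTensor C (ρ v)))
    rw [rid_lTensor_rTensor]
    exact (h f v).symm

end Free

end GrothLib.Comodule
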