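import Groth.Agent.Lib.Comod.Basic
import Groth.Agent.Lib.Hopf.Antipode
import Mathlib.RingTheory.HopfAlgebra.Basic

/-!
# Splitting of comodules by a total integral with trivial values
-/

universe u v w w'

open TensorProduct HopfRep GrothLib.Hopf

namespace GrothLib.Comodule

section Coalg

variable {k : Type u} [CommRing k] {C : Type v} [AddCommGroup C] [Module k C] [Coalgebra k C]
  {V : Type w} [AddCommGroup V] [Module k V] [HopfRep.Comod k C V]

theorem coact_op (f : Module.Dual k C) (v : V) :
    HopfRep.Comod.coact (k := k) (A := C) (Comod.op f v) =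
      LinearMap.lTensor V ((TensorProduct.rid k C).toLinearMap ∘ₗ f.lTensor C ∘ₗ
        Coalgebra.comul (R := k)) (HopfRep.Comod.coact (k := k) (A := C) v) := by
  set ρ := HopfRep.Comod.coact (k := k) (A := C) (V := V)
  have h1 : ∀ y : V ⊗[k] C, ρ (TensorProduct.rid k V (f.lTensor V y)) =
      LinearMap.lTensor V ((TensorProduct.rid k C).toLinearMap ∘ₗ f.lTensor C)
        (TensorProduct.assoc k V C C (ρ.rTensor C y)) := fun y => by
    induction y using TensorProduct.induction_on with
    | zero => simp
    | tmul a c =>
      rw [LinearMap.lTensor_tmul, TensorProduct.rid_tmul, map_smul, LinearMap.rTensor_tmul]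
      induction ρ a using TensorProduct.induction_on with
      | zero => simp
      | tmul p q => simp [TensorProduct.smul_tmul']
      | add p q hp hq => simp only [TensorProduct.add_tmul, map_add, smul_add, hp, hq]
    | add a c ha hc => simp only [map_add, ha, hc]
  have h2 := LinearMap.congr_fun (HopfRep.Comod.coassoc (k := k) (A := C) (V := V)) v
  simp only [LinearMap.comp_apply, LinearEquiv.coe_coe] at h2
  change ρ (TensorProduct.rid k V (f.lTensor V (ρ v))) = _
  rw [h1, h2, ← LinearMap.comp_apply (LinearMap.lTensor V _), ← LinearMap.lTensor_comp]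
  rfl

/-- linear maps induce maps of induced comodules -/
noncomputable def indMap {P : Type*} [AddCommGroup P] [Module k P] {Q : Type*} [AddCommGroup Q]
    [Module k Q] (g : P →ₗ[k] Q) : Hoch.Ind k C P →ₗ[k] Hoch.Ind k C Q :=
  (Hoch.Ind.equiv k C Q).toLinearMap ∘ₗ g.rTensor C ∘ₗ (Hoch.Ind.equiv k C P).symm.toLinearMap

theorem isComodHom_indMap {P : Type*} [AddCommGroup P] [Module k P] {Q : Type*} [AddCommGroup Q]
    [Module k Q] (g : P →ₗ[k] Q) : Hoch.IsComodHom C (indMap (C := C) g) := by
  refine LinearMap.ext fun x => ?_
  change Hoch.Ind.coactAux k C Q (g.rTensor C x) =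
    (g.rTensor C).rTensor C (Hoch.Ind.coactAux k C P x)
  induction (show P ⊗[k] C from x) using TensorProduct.induction_on with
  | zero => simp
  | tmul p c =>
    rw [LinearMap.rTensor_tmul, Hoch.Ind.coactAux_tmul, Hoch.Ind.coactAux_tmul]
    induction Coalgebra.comul (R := k) c using TensorProduct.induction_on with
    | zero => simp
    | tmul a b => simp
    | add a b ha hb => simp only [TensorProduct.tmul_add, map_add, ha, hb]
  | add a b ha hb => simp only [map_add, ha, hb]

end Coalg

section Hopf

variable {k : Type u} [CommRing k] {A : Type v} [CommRing A] [HopfAlgebra k A]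
  {V : Type w} [AddCommGroup V] [Module k V] [HopfRep.Comod k A V]

variable (α : A →ₗ[k] k)

/-- `α` is invariant: `∑ α(a₁) a₂ = α(a) 1` -/
def IsInvariant : Prop :=
  ∀ a : A, TensorProduct.lid k A (α.rTensor A (Coalgebra.comul (R := k) a)) = α a • (1 : A)

/-- the pairing `a ⊗ b ↦ α (S a * b)` -/
noncomputable def pairing : A ⊗[k] A →ₗ[k] k :=
  α ∘ₗ LinearMap.mul' k A ∘ₗ (HopfAlgebraStruct.antipode (R := k) (A := A)).rTensor A

theorem pairing_tmul (a b : A) : pairing α (a ⊗ₜ b) = α (HopfAlgebraStruct.antipode k a * b) := by
  simp [pairing]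

/-- `a ↦ α (S a * b)` -/
noncomputable def pairL (b : A) : Module.Dual k A := pairing α ∘ₗ (TensorProduct.mk k A A).flip b

theorem pairing_identity (hα : IsInvariant α) (a b : A) :
    TensorProduct.rid k A ((pairL α b).lTensor A (Coalgebra.comul (R := k) a)) =
      TensorProduct.lid k A ((pairing α ∘ₗ TensorProduct.mk k A A a).rTensor A
        (Coalgebra.comul (R := k) b)) := by
  set S := HopfAlgebraStruct.antipode (R := k) (A := A)
  let M : A ⊗[k] A →ₗ[k] A := (TensorProduct.lid k A).toLinearMap ∘ₗ α.rTensor A ∘ₗ
    LinearMap.mulRight k (Coalgebra.comul (R := k) b) ∘ₗ TensorProduct.map S S ∘ₗ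
      (TensorProduct.comm k A A).toLinearMap
  let N : A →ₗ[k] A :=
    { toFun := fun z => TensorProduct.lid k A ((pairing α ∘ₗ TensorProduct.mk k A A z).rTensor A
        (Coalgebra.comul (R := k) b))
      map_add' := fun z z' => by
        rw [map_add, LinearMap.comp_add, LinearMap.rTensor_add, LinearMap.add_apply, map_add]
      map_smul' := fun c z => by
        rw [map_smul, LinearMap.comp_smul, LinearMap.rTensor_smul, LinearMap.smul_apply, map_smul]
        rfl }
  have hM : ∀ y, M (Coalgebra.comul (R := k) y) = α (S y * b) • (1 : A) := fun y => by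
    change TensorProduct.lid k A (α.rTensor A
      (TensorProduct.map S S (TensorProduct.comm k A A (Coalgebra.comul (R := k) y)) *
        Coalgebra.comul (R := k) b)) = _
    rw [← GrothLib.Hopf.comul_antipode, ← Bialgebra.comul_mul]
    exact hα _
  let Φ : A ⊗[k] (A ⊗[k] A) →ₗ[k] A := LinearMap.mul' k A ∘ₗ M.lTensor A
  have hΦ : ∀ x y z : A, Φ (x ⊗ₜ (y ⊗ₜ z)) = x * S y * N z := fun x y z => by
    change x * TensorProduct.lid k A (α.rTensor A
        ((S z ⊗ₜ S y) * Coalgebra.comul (R := k) b)) =
      x * S y * TensorProduct.lid k A ((pairing α ∘ₗ TensorProduct.mk k A A z).rTensor A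
        (Coalgebra.comul (R := k) b))
    induction Coalgebra.comul (R := k) b using TensorProduct.induction_on with
    | zero => simp
    | tmul p q => simp [pairing_tmul, S, mul_assoc]
    | add p q hp hq => simp only [mul_add, map_add, hp, hq]
  have h1 : Φ ((Coalgebra.comul (R := k) (A := A)).lTensor A (Coalgebra.comul (R := k) a)) =
      TensorProduct.rid k A ((pairL α b).lTensor A (Coalgebra.comul (R := k) a)) := by
    induction Coalgebra.comul (R := k) a using TensorProduct.induction_on with
    | zero => simp
    | tmul p q =>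
      change p * M (Coalgebra.comul (R := k) q) = _
      rw [hM]
      simp [pairL, pairing_tmul, S, mul_comm]
    | add p q hp hq => simp only [map_add, hp, hq]
  have h2 : Φ (TensorProduct.assoc k A A A
      ((Coalgebra.comul (R := k) (A := A)).rTensor A (Coalgebra.comul (R := k) a))) = N a := by
    have hr : ∀ w, Φ (TensorProduct.assoc k A A A ((Coalgebra.comul (R := k) (A := A)).rTensor A w)) =
        N (TensorProduct.lid k A ((Coalgebra.counit (R := k) (A := A)).rTensor A w)) := fun w => by
      induction w using TensorProduct.induction_on with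
      | zero => simp
      | tmul x z =>
        rw [LinearMap.rTensor_tmul, LinearMap.rTensor_tmul, TensorProduct.lid_tmul, map_smul,
          Algebra.smul_def]
        rw [← HopfAlgebra.mul_antipode_lTensor_comul_apply (R := k) x]
        induction Coalgebra.comul (R := k) x using TensorProduct.induction_on with
        | zero => simp
        | tmul p q =>
          rw [TensorProduct.assoc_tmul, hΦ]
          simp [S]
        | add p q hp hq => simp only [TensorProduct.add_tmul, map_add, add_mul, hp, hq]
      | add p q hp hq => simp only [map_add, hp, hq]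
    rw [hr, Coalgebra.rTensor_counit_comul, TensorProduct.lid_tmul, one_smul]
  rw [Coalgebra.coassoc_apply, h1] at h2
  exact h2

/-- averaging `v ⊗ b ↦ ∑ α(S v₁ b) v₀` -/
noncomputable def average : Hoch.Ind k A V →ₗ[k] V :=
  (TensorProduct.rid k V).toLinearMap ∘ₗ (pairing α).lTensor V ∘ₗ
    (TensorProduct.assoc k V A A).toLinearMap ∘ₗ
      (HopfRep.Comod.coact (k := k) (A := A) (V := V)).rTensor A ∘ₗ
        (Hoch.Ind.equiv k A V).symm.toLinearMap

theorem average_tmul (v : V) (b : A) :
    average α (Hoch.Ind.equiv k A V (v ⊗ₜ b)) = Comod.op (pairL α b) v := by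
  change TensorProduct.rid k V ((pairing α).lTensor V
    (TensorProduct.assoc k V A A (HopfRep.Comod.coact (k := k) (A := A) v ⊗ₜ[k] b))) =
    TensorProduct.rid k V ((pairL α b).lTensor V (HopfRep.Comod.coact (k := k) (A := A) v))
  induction HopfRep.Comod.coact (k := k) (A := A) v using TensorProduct.induction_on with
  | zero => simp
  | tmul p q => simp [pairL]
  | add p q hp hq => simp only [TensorProduct.add_tmul, map_add, hp, hq]

theorem isComodHom_average (hα : IsInvariant α) :
    Hoch.IsComodHom A (average (V := V) α) := by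
  refine LinearMap.ext fun x => ?_
  rw [← LinearEquiv.apply_symm_apply (Hoch.Ind.equiv k A V) x]
  induction (Hoch.Ind.equiv k A V).symm x using TensorProduct.induction_on with
  | zero => simp
  | tmul v b =>
    rw [LinearMap.comp_apply, average_tmul, coact_op, LinearMap.comp_apply, Hoch.Ind.coact_equiv_tmul]
    have hmap : ((TensorProduct.rid k A).toLinearMap ∘ₗ (pairL α b).lTensor A ∘ₗ
        Coalgebra.comul (R := k)) = (TensorProduct.lift (LinearMap.mk₂ k
          (fun (a : A) (w : A ⊗[k] A) => TensorProduct.lid k A
            ((pairing α ∘ₗ TensorProduct.mk k A A a).rTensor A w))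
          (fun a a' w => by
            rw [map_add, LinearMap.comp_add, LinearMap.rTensor_add, LinearMap.add_apply, map_add])
          (fun c a w => by
            rw [map_smul, LinearMap.comp_smul, LinearMap.rTensor_smul, LinearMap.smul_apply, map_smul])
          (fun a w w' => by rw [map_add, map_add])
          (fun c a w => by rw [map_smul, map_smul]))) ∘ₗ
            (TensorProduct.mk k A (A ⊗[k] A)).flip (Coalgebra.comul (R := k) b) :=
      LinearMap.ext fun a => pairing_identity α hα a b
    rw [hmap]
    clear hmap
    change _ = (average α ∘ₗ (Hoch.Ind.equiv k A V).toLinearMap).rTensor A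
      ((TensorProduct.assoc k V A A).symm (v ⊗ₜ Coalgebra.comul (R := k) b))
    induction Coalgebra.comul (R := k) b using TensorProduct.induction_on with
    | zero =>
      rw [map_zero, LinearMap.comp_zero, LinearMap.lTensor_zero, TensorProduct.tmul_zero, map_zero,
        map_zero, LinearMap.zero_apply]
    | tmul p q =>
      rw [TensorProduct.assoc_symm_tmul]
      change _ = average α (Hoch.Ind.equiv k A V (v ⊗ₜ p)) ⊗ₜ[k] q
      rw [average_tmul]
      change _ = TensorProduct.rid k V ((pairL α p).lTensor V
        (HopfRep.Comod.coact (k := k) (A := A) v)) ⊗ₜ[k] q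
      induction HopfRep.Comod.coact (k := k) (A := A) v using TensorProduct.induction_on with
      | zero => simp
      | tmul r s => simp [pairL, TensorProduct.smul_tmul]
      | add r s hr hs => simp only [map_add, TensorProduct.add_tmul, hr, hs]
    | add p q hp hq =>
      rw [map_add, LinearMap.comp_add, LinearMap.lTensor_add, LinearMap.add_apply, hp, hq,
        TensorProduct.tmul_add, map_add, map_add]
  | add a b ha hb => simp only [map_add, ha, hb]

theorem average_coact (h1 : α 1 = 1) (v : V) : average α (Hoch.toInd k A V v) = v := by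
  have h2 := LinearMap.congr_fun (HopfRep.Comod.coassoc (k := k) (A := A) (V := V)) v
  simp only [LinearMap.comp_apply, LinearEquiv.coe_coe] at h2
  change TensorProduct.rid k V ((pairing α).lTensor V (TensorProduct.assoc k V A A
    ((HopfRep.Comod.coact (k := k) (A := A) (V := V)).rTensor A
      (HopfRep.Comod.coact (k := k) (A := A) v)))) = v
  rw [h2, ← LinearMap.comp_apply (LinearMap.lTensor V (pairing α)), ← LinearMap.lTensor_comp]
  have hp : pairing α ∘ₗ Coalgebra.comul (R := k) = Coalgebra.counit (A := A) :=
    LinearMap.ext fun a => by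
      change α (LinearMap.mul' k A ((HopfAlgebraStruct.antipode (R := k) (A := A)).rTensor A
        (Coalgebra.comul (R := k) a))) = _
      rw [HopfAlgebra.mul_antipode_rTensor_comul_apply, Algebra.algebraMap_eq_smul_one, map_smul, h1,
        smul_eq_mul, mul_one]
  rw [hp]
  exact Comod.op_counit v

/-- a total integral with trivial values splits every subcomodule which is a direct summand -/
theorem exists_isCompl_of_invariant (hα : IsInvariant α) (h1 : α 1 = 1) {U : Submodule k V}
    (hU : IsSubcomod (k := k) (A := A) U) (hsplit : ∃ U' : Submodule k V, IsCompl U U') :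
    ∃ U'' : Submodule k V, IsSubcomod (k := k) (A := A) U'' ∧ IsCompl U U'' := by
  obtain ⟨U', hc⟩ := hsplit
  let p : V →ₗ[k] V := U.subtype ∘ₗ U.projectionOnto U' hc
  let q : V →ₗ[k] V := average α ∘ₗ indMap p ∘ₗ Hoch.toInd k A V
  have hq : Hoch.IsComodHom A q :=
    IsComodHom.comp (isComodHom_average α hα) (IsComodHom.comp (isComodHom_indMap p) isComodHom_toInd)
  have hfix : ∀ u ∈ U, q u = u := fun u hu => by
    obtain ⟨x, hx⟩ := hU u hu
    have hp : p.rTensor A (HopfRep.Comod.coact (k := k) (A := A) u) =
        HopfRep.Comod.coact (k := k) (A := A) u := by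
      rw [← hx, ← LinearMap.comp_apply, ← LinearMap.rTensor_comp]
      congr 2
      exact LinearMap.ext fun w => by simp [p]
    change average α (Hoch.Ind.equiv k A V (p.rTensor A (HopfRep.Comod.coact (k := k) (A := A) u))) = u
    rw [hp]
    exact average_coact α h1 u
  have hmem : ∀ v, q v ∈ U := fun v => by
    change average α (Hoch.Ind.equiv k A V (p.rTensor A (HopfRep.Comod.coact (k := k) (A := A) v))) ∈ U
    induction HopfRep.Comod.coact (k := k) (A := A) v using TensorProduct.induction_on with
    | zero => simp
    | tmul a b =>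
      rw [LinearMap.rTensor_tmul, average_tmul]
      exact Comod.op_mem_of_isSubcomod hU (by simp [p]) _
    | add a b ha hb => simpa only [map_add] using U.add_mem ha hb
  refine ⟨LinearMap.range (LinearMap.id - q),
    IsComodHom.range_isSubcomod (IsComodHom.sub isComodHom_id hq), disjoint_iff.2 ?_, codisjoint_iff.2 ?_⟩
  · refine eq_bot_iff.2 ?_
    rintro u ⟨hu, v, rfl⟩
    have hv : v - q v ∈ U := hu
    have := hfix _ hv
    rw [map_sub, hfix _ (hmem v), sub_self] at this
    exact (Submodule.mem_bot k).2 this.symm
  · refine eq_top_iff.2 fun v _ => ?_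
    exact Submodule.mem_sup.2 ⟨q v, hmem v, v - q v, ⟨v, rfl⟩, add_sub_cancel _ _⟩

end Hopf

end GrothLib.Comodule
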