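import Groth.Agent.Lib.Comod.Semi
import Mathlib.RingTheory.SimpleModule.Isotypic

/-!
# Isotypic components of comodules
-/

universe u v w w' w''

open TensorProduct HopfRep GrothLib.Hopf

namespace GrothLib.Comodule

variable {k : Type u} [Field k] {C : Type v} [AddCommGroup C] [Module k C] [Coalgebra k C]
  {V : Type w} [AddCommGroup V] [Module k V] [HopfRep.Comod k C V]
  {S : Type w'} [AddCommGroup S] [Module k S] [HopfRep.Comod k C S]
  {T : Type w''} [AddCommGroup T] [Module k T] [HopfRep.Comod k C T]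

theorem isComodHom_symm {e : S ≃ₗ[k] T} (he : Hoch.IsComodHom C (e : S →ₗ[k] T)) :
    Hoch.IsComodHom C (e.symm : T →ₗ[k] S) := by
  refine LinearMap.ext fun t => ?_
  obtain ⟨s, rfl⟩ := e.surjective t
  change HopfRep.Comod.coact (k := k) (A := C) (e.symm (e s)) =
    (e.symm : T →ₗ[k] S).rTensor C (HopfRep.Comod.coact (k := k) (A := C) ((e : S →ₗ[k] T) s))
  rw [e.symm_apply_apply, IsComodHom.apply he, ← LinearMap.comp_apply,
    ← LinearMap.rTensor_comp, show (e.symm : T →ₗ[k] S) ∘ₗ (e : S →ₗ[k] T) = LinearMap.id from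
      LinearMap.ext e.symm_apply_apply, LinearMap.rTensor_id, LinearMap.id_apply]

/-- a linear equivalence of modules over the operator algebra is an iso of comodules -/
noncomputable def ofEquiv (e : AsMod k C S ≃ₗ[OpAlg k C] AsMod k C T) : S ≃ₗ[k] T :=
  LinearEquiv.ofBijective (ofHom e.toLinearMap) e.bijective

theorem isComodHom_ofEquiv (e : AsMod k C S ≃ₗ[OpAlg k C] AsMod k C T) :
    Hoch.IsComodHom C (ofEquiv e : S →ₗ[k] T) :=
  isComodHom_ofHom e.toLinearMap

variable (k C V S) in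
/-- the isotypic component of type `S` -/
noncomputable def isoComp : Submodule k V :=
  ⨆ f : {f : S →ₗ[k] V // Hoch.IsComodHom C f}, LinearMap.range f.1

theorem isoComp_eq (hS : IsSimpleComod k C S) :
    isoComp k C V S =
      ofSub (isotypicComponent (OpAlg k C) (AsMod k C V) (AsMod k C S)) := by
  have := isSimpleComod_iff.1 hS
  refine le_antisymm (iSup_le fun f => ?_) ?_
  · rw [← ofSub_range f.1 f.2]
    refine ofSub_mono.2 ?_
    rcases LinearMap.injective_or_eq_zero (toHom f.1 f.2) with h | h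
    · exact le_sSup ⟨(LinearEquiv.ofInjective _ h).symm⟩
    · rw [h, LinearMap.range_zero]; exact bot_le
  · rw [isotypicComponent, sSup_eq_iSup', ofSub_iSup]
    refine iSup_le fun N => ?_
    obtain ⟨e⟩ := N.2
    refine le_trans ?_ (le_iSup _
      ⟨_, isComodHom_ofHom (N.1.subtype ∘ₗ e.symm.toLinearMap)⟩)
    intro v hv
    refine ⟨e ⟨v, hv⟩, ?_⟩
    change ((e.symm (e ⟨v, hv⟩) : N.1) : AsMod k C V) = v
    rw [e.symm_apply_apply]

theorem isSubcomod_isoComp : IsSubcomod (k := k) (A := C) (isoComp k C V S) :=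
  isSubcomod_iSup fun f => IsComodHom.range_isSubcomod f.2

/-- comodule endomorphisms preserve isotypic components -/
theorem isoComp_le_comap {g : V →ₗ[k] V} (hg : Hoch.IsComodHom C g) :
    isoComp k C V S ≤ (isoComp k C V S).comap g := by
  refine iSup_le fun f => ?_
  rintro _ ⟨s, rfl⟩
  exact Submodule.mem_iSup_of_mem ⟨g ∘ₗ f.1, IsComodHom.comp hg f.2⟩ ⟨s, rfl⟩

theorem disjoint_isoComp {ι : Type*} (P : ι → Type w') [∀ j, AddCommGroup (P j)]
    [∀ j, Module k (P j)] [∀ j, HopfRep.Comod k C (P j)] (hP : ∀ j, IsSimpleComod k C (P j))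
    (hne : ∀ i j, i ≠ j → ∀ e : P i ≃ₗ[k] P j, ¬ Hoch.IsComodHom C (e : P i →ₗ[k] P j)) :
    iSupIndep (fun j => isoComp k C V (P j)) := by
  classical
  have : ∀ j, IsSimpleModule (OpAlg k C) (AsMod k C (P j)) := fun j => isSimpleComod_iff.1 (hP j)
  let N : ι → Submodule (OpAlg k C) (AsMod k C V) :=
    fun j => isotypicComponent (OpAlg k C) (AsMod k C V) (AsMod k C (P j))
  intro j
  have h1 : (⨆ i, ⨆ (_ : i ≠ j), isoComp k C V (P i)) = ofSub (⨆ i, ⨆ (_ : i ≠ j), N i) := by
    simp only [ofSub_iSup, isoComp_eq (hP _), N]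
  change Disjoint (isoComp k C V (P j)) (⨆ i, ⨆ (_ : i ≠ j), isoComp k C V (P i))
  rw [disjoint_iff, h1, isoComp_eq (hP j), ← ofSub_inf]
  rw [← ofSub_bot (k := k) (C := C) (V := V)]
  refine congrArg ofSub (disjoint_iff.1 ?_)
  by_cases hj : N j = ⊥
  · change Disjoint (N j) _
    rw [hj]; exact disjoint_bot_left
  have key : ∀ i, N i ≠ ⊥ → ∃ S₀ : Submodule (OpAlg k C) (AsMod k C V),
      IsSimpleModule (OpAlg k C) S₀ ∧ Nonempty (S₀ ≃ₗ[OpAlg k C] AsMod k C (P i)) ∧
      isotypicComponent (OpAlg k C) (AsMod k C V) S₀ = N i := by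
    intro i hi
    obtain ⟨m, ⟨e⟩⟩ : ∃ m : Submodule (OpAlg k C) (AsMod k C V),
        Nonempty (m ≃ₗ[OpAlg k C] AsMod k C (P i)) := by
      by_contra h
      exact hi (sSup_eq_bot.2 fun m hm => absurd ⟨m, hm⟩ h)
    exact ⟨m, IsSimpleModule.congr e, ⟨e⟩, e.isotypicComponent_eq⟩
  refine Disjoint.mono_right (iSup₂_le fun i hi => ?_)
    (sSupIndep_isotypicComponents (OpAlg k C) (AsMod k C V) (a := N j) ?_)
  · by_cases h0 : N i = ⊥
    · exact h0 ▸ bot_le
    refine le_sSup ⟨?_, ?_⟩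
    · obtain ⟨m, hm, -, heq⟩ := key i h0
      exact ⟨m, hm, heq.symm⟩
    · intro heq
      obtain ⟨m, hm, ⟨e⟩, hc⟩ := key i h0
      have hle : m ≤ N j := by
        rw [← (Set.mem_singleton_iff.1 heq), ← hc]
        exact Submodule.le_isotypicComponent m
      have := hm
      have : ∀ m : {m : Submodule (OpAlg k C) (AsMod k C V) |
          Nonempty (m ≃ₗ[OpAlg k C] AsMod k C (P j))}, IsSimpleModule (OpAlg k C) m :=
        fun m => IsSimpleModule.congr m.2.some
      obtain ⟨m', hm', ⟨e'⟩⟩ := m.linearEquiv_of_le_sSup _ hle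
      exact hne j i (Ne.symm hi) (ofEquiv ((hm'.some.symm.trans e'.symm).trans e))
        (isComodHom_ofEquiv _)
  · obtain ⟨m, hm, -, heq⟩ := key j hj
    exact ⟨m, hm, heq.symm⟩

/-- a simple comodule mapping nonzero to a sum of images of simples is isomorphic to one -/
theorem exists_iso_of_le_iSup {ι : Type*} (K : ι → Type w'') [∀ i, AddCommGroup (K i)]
    [∀ i, Module k (K i)] [∀ i, HopfRep.Comod k C (K i)] (hK : ∀ i, IsSimpleComod k C (K i))
    (g : ∀ i, K i →ₗ[k] V) (hg : ∀ i, Hoch.IsComodHom C (g i))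
    (hS : IsSimpleComod k C S) {f : S →ₗ[k] V} (hf : Hoch.IsComodHom C f) (hf0 : f ≠ 0)
    (hle : LinearMap.range f ≤ ⨆ i, LinearMap.range (g i)) :
    ∃ (i : ι) (e : S ≃ₗ[k] K i), Hoch.IsComodHom C (e : S →ₗ[k] K i) := by
  have := isSimpleComod_iff.1 hS
  have : ∀ i, IsSimpleModule (OpAlg k C) (AsMod k C (K i)) := fun i => isSimpleComod_iff.1 (hK i)
  have hF : Function.Injective (toHom f hf) := by
    rcases LinearMap.injective_or_eq_zero (toHom f hf) with h | h
    · exact h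
    · exact absurd (LinearMap.ext fun v => LinearMap.congr_fun h v : f = 0) hf0
  let P : Set (Submodule (OpAlg k C) (AsMod k C V)) :=
    {N | ∃ i, Nonempty (N ≃ₗ[OpAlg k C] AsMod k C (K i))}
  have : ∀ N : P, IsSimpleModule (OpAlg k C) N := fun N => by
    obtain ⟨i, ⟨e⟩⟩ := N.2; exact IsSimpleModule.congr e
  have hle' : LinearMap.range (toHom f hf) ≤ sSup P := by
    rw [← ofSub_mono, ofSub_range]
    refine hle.trans (iSup_le fun i => ?_)
    rw [← ofSub_range (g i) (hg i), ofSub_mono]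
    rcases LinearMap.injective_or_eq_zero (toHom (g i) (hg i)) with h | h
    · exact le_sSup ⟨i, ⟨(LinearEquiv.ofInjective _ h).symm⟩⟩
    · rw [h, LinearMap.range_zero]; exact bot_le
  have : IsSimpleModule (OpAlg k C) (LinearMap.range (toHom f hf)) :=
    IsSimpleModule.congr (LinearEquiv.ofInjective _ hF).symm
  obtain ⟨N, ⟨i, ⟨e⟩⟩, ⟨e'⟩⟩ := Submodule.linearEquiv_of_le_sSup _ P hle'
  exact ⟨i, ofEquiv (((LinearEquiv.ofInjective _ hF).trans e').trans e),
    isComodHom_ofEquiv _⟩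

end GrothLib.Comodule
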