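import Groth.Agent.Lib.Comod.Coeff
import Groth.Agent.Lib.Comod.Isotypic
import Groth.Agent.Lib.Comod.Integral

/-!
# Cosemisimple coalgebras
-/

universe u v w w'

open TensorProduct HopfRep GrothLib.Hopf

namespace GrothLib.Comodule

variable {k : Type u} [Field k] {C : Type v} [AddCommGroup C] [Module k C] [Coalgebra k C]
  {V : Type w} [AddCommGroup V] [Module k V] [HopfRep.Comod k C V]

variable (C) in
/-- `c ↦ v ⊗ c` -/
noncomputable def indIncl (v : V) : C →ₗ[k] Hoch.Ind k C V :=
  (Hoch.Ind.equiv k C V).toLinearMap ∘ₗ TensorProduct.mk k V C v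

theorem isComodHom_indIncl (v : V) : Hoch.IsComodHom C (indIncl (k := k) C v) := by
  refine LinearMap.ext fun c => ?_
  change Hoch.Ind.coactAux k C V (v ⊗ₜ c) =
    (TensorProduct.mk k V C v).rTensor C (Coalgebra.comul (R := k) c)
  rw [Hoch.Ind.coactAux_tmul]
  induction Coalgebra.comul (R := k) c using TensorProduct.induction_on with
  | zero => simp
  | tmul a b => simp
  | add a b ha hb => simp only [TensorProduct.tmul_add, map_add, ha, hb]

/-- if the regular comodule is semisimple then all comodules are -/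
theorem semisimple_of_regular (h : IsSemisimpleComod k C C) : IsSemisimpleComod k C V := by
  rw [isSemisimpleComod_iff] at h ⊢
  have := h
  have hI : IsSemisimpleModule (OpAlg k C) (AsMod k C (Hoch.Ind k C V)) := by
    refine isSemisimpleModule_of_isSemisimpleModule_submodule'
      (p := fun v : V => LinearMap.range (toHom (indIncl C v) (isComodHom_indIncl v)))
      (fun v => IsSemisimpleModule.range _) (ofSub_injective ?_)
    rw [ofSub_iSup, ofSub_top, eq_top_iff]
    intro x _
    simp only [ofSub_range]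
    rw [← LinearEquiv.apply_symm_apply (Hoch.Ind.equiv k C V) x]
    induction (Hoch.Ind.equiv k C V).symm x using TensorProduct.induction_on with
    | zero => simp
    | tmul a c => exact Submodule.mem_iSup_of_mem a ⟨c, rfl⟩
    | add a b ha hb => simpa only [map_add] using Submodule.add_mem _ ha hb
  exact IsSemisimpleModule.of_injective (toHom _ isComodHom_toInd)
    (toHom_injective _ fun x y hxy => coact_injective ((Hoch.Ind.equiv k C V).injective hxy))

/-- a simple subcoalgebra -/
def IsSimpleCoalg (D : Submodule k C) : Prop :=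
  D ≠ ⊥ ∧ IsSubcoalg D ∧ ∀ B : Submodule k C, B ≤ D → IsSubcoalg B → B = ⊥ ∨ B = D

theorem IsSimpleCoalg.eq_coeff {D : Submodule k C} (h : IsSimpleCoalg D) {U : Submodule k C}
    (hU : IsSubcomod (k := k) (A := C) U) (hne : U ≠ ⊥) (hle : U ≤ D) :
    D = @coeff k _ C _ _ _ U _ _ (ComodSub.Comod.restr (HopfRep.Comod.regular k C) U hU) := by
  let _ := ComodSub.Comod.restr (HopfRep.Comod.regular k C) U hU
  rcases h.2.2 _ (coeff_restr_le h.2.1 hU hle) isSubcoalg_coeff with h' | h'
  · exact absurd (eq_bot_iff.2 (h' ▸ le_coeff_restr hU)) hne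
  · exact h'.symm

theorem isSimpleCoalg_coeff (hV : IsSimpleComod k C V) : IsSimpleCoalg (coeff k C V) :=
  have := hV.1
  ⟨coeff_ne_bot, isSubcoalg_coeff, coeff_simple hV⟩

theorem IsSimpleCoalg.exists_simpleSub {D : Submodule k C} (h : IsSimpleCoalg D) :
    ∃ (U : Submodule k C) (hU : IsSubcomod (k := k) (A := C) U), U ≤ D ∧ IsSimpleSub (C := C) U ∧
      toSub D h.2.1.isSubcomod =
        isotypicComponent (OpAlg k C) (AsMod k C C) (toSub U hU) := by
  obtain ⟨U, hUD, hU⟩ := exists_simpleSub_le h.2.1.isSubcomod h.1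
  refine ⟨U, hU.1, hUD, hU, ?_⟩
  let _ := ComodSub.Comod.restr (HopfRep.Comod.regular k C) U hU.1
  have hs : IsSimpleComod k C U :=
    (isSimpleSub_iff_restr (HopfRep.Comod.regular k C) U hU.1).1 hU
  have e1 := toSub_coeff_eq (C := C) hs
  rw [(restrEquiv (HopfRep.Comod.regular k C) U hU.1).isotypicComponent_eq] at e1
  refine Eq.trans ?_ e1
  congr 1
  exact h.eq_coeff hU.1 hU.2.1 hUD

theorem semisimple_regular_of_sum {ι : Type*} (D : ι → Submodule k C)
    (hD : ∀ i, IsSimpleCoalg (D i)) (hsum : ⨆ i, D i = ⊤) : IsSemisimpleComod k C C := by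
  rw [isSemisimpleComod_iff]
  have hs : ∀ i, IsSemisimpleModule (OpAlg k C) (toSub (D i) (hD i).2.1.isSubcomod) := fun i => by
    obtain ⟨U, hU, -, hUs, heq⟩ := (hD i).exists_simpleSub
    have := (isSimpleSub_iff hU).1 hUs
    rw [heq]
    infer_instance
  refine isSemisimpleModule_of_isSemisimpleModule_submodule' hs (ofSub_injective ?_)
  rw [ofSub_iSup, ofSub_top, ← hsum]
  exact iSup_congr fun i => ofSub_toSub _ _

/-- a coalgebra with semisimple regular comodule is a direct sum of simple subcoalgebras -/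
theorem exists_decomp (h : IsSemisimpleComod k C C) :
    ∃ (ι : Type v) (D : ι → Submodule k C), iSupIndep D ∧ iSup D = ⊤ ∧
      ∀ i, IsSimpleCoalg (D i) := by
  classical
  have := isSemisimpleComod_iff.1 h
  let s := isotypicComponents (OpAlg k C) (AsMod k C C)
  refine ⟨s, fun c => ofSub c.1, fun c => ?_, ?_, fun c => ?_⟩
  · have h1 : (⨆ j, ⨆ (_ : j ≠ c), ofSub (j : s).1) = ofSub (⨆ j, ⨆ (_ : j ≠ c), (j : s).1) := by
      simp only [ofSub_iSup]
    rw [disjoint_iff, h1, ← ofSub_inf]
    rw [← ofSub_bot (k := k) (C := C) (V := C)]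
    exact congrArg ofSub (disjoint_iff.1
      ((sSupIndep_iff s).1 (sSupIndep_isotypicComponents (OpAlg k C) (AsMod k C C)) c))
  · rw [← ofSub_iSup, ← sSup_eq_iSup', sSup_isotypicComponents, ofSub_top]
  · obtain ⟨S, hS, hc⟩ := c.2
    have hsub := isSubcomod_ofSub S
    let _ := ComodSub.Comod.restr (HopfRep.Comod.regular k C) (ofSub S) hsub
    have hs : IsSimpleComod k C (ofSub S) := (isSimpleSub_iff_restr (HopfRep.Comod.regular k C)
      (ofSub S) hsub).1 ((isSimpleSub_iff hsub).2 hS)
    have e1 := congrArg ofSub (toSub_coeff_eq (C := C) hs)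
    rw [ofSub_toSub, (restrEquiv (HopfRep.Comod.regular k C) (ofSub S) hsub).isotypicComponent_eq,
      toSub_ofSub, ← hc] at e1
    change IsSimpleCoalg (ofSub c.1)
    rw [← e1]
    exact isSimpleCoalg_coeff hs

end GrothLib.Comodule
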