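import Groth.Agent.Lib.Comod.Basic
import Groth.Prelude.Def_ComodSub
import Mathlib.Algebra.FreeAlgebra
import Mathlib.RingTheory.SimpleModule.Isotypic

/-!
# Comodules as modules over the free algebra on the dual of the coalgebra

Over a coalgebra free as a module, subcomodules are the submodules and comodule maps the linear maps.
-/

universe u v w w' w''

open TensorProduct HopfRep GrothLib.Hopf

namespace GrothLib.Comodule

/-- the algebra acting on every comodule -/
abbrev OpAlg (k : Type u) (C : Type v) [CommRing k] [AddCommGroup C] [Module k C] :=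
  FreeAlgebra k (Module.Dual k C)

/-- a comodule regarded as a module over `OpAlg k C` -/
def AsMod (k : Type u) (C : Type v) (V : Type w) : Type w := V

variable {k : Type u} [CommRing k] {C : Type v} [AddCommGroup C] [Module k C] [Coalgebra k C]
  {V : Type w} [AddCommGroup V] [Module k V] [HopfRep.Comod k C V]

instance AsMod.instAddCommGroup : AddCommGroup (AsMod k C V) := inferInstanceAs (AddCommGroup V)

instance AsMod.instModuleBase : Module k (AsMod k C V) := inferInstanceAs (Module k V)

variable (k C) in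
/-- the identity `V ≃ AsMod k C V` -/
def asMod : V ≃ₗ[k] AsMod k C V := LinearEquiv.refl k V

variable (V) in
/-- the operator `(id ⊗ f) ∘ ρ` on `AsMod` -/
noncomputable def opEnd (f : Module.Dual k C) : Module.End k (AsMod k C V) :=
  (asMod k C).toLinearMap ∘ₗ Comod.op (k := k) (C := C) (V := V) f ∘ₗ (asMod k C).symm.toLinearMap

noncomputable instance AsMod.instModuleOp : Module (OpAlg k C) (AsMod k C V) :=
  Module.compHom (AsMod k C V) ((FreeAlgebra.lift k) (opEnd V)).toRingHom

theorem smul_def (r : OpAlg k C) (v : AsMod k C V) :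
    r • v = FreeAlgebra.lift k (opEnd V) r v := rfl

theorem ι_smul (f : Module.Dual k C) (v : V) :
    (FreeAlgebra.ι k f : OpAlg k C) • (asMod k C v) = asMod k C (Comod.op f v) := by
  rw [smul_def, FreeAlgebra.lift_ι_apply]
  rfl

theorem algebraMap_smul' (c : k) (v : AsMod k C V) :
    (algebraMap k (OpAlg k C) c) • v = c • v := by
  rw [smul_def, AlgHom.commutes, Module.algebraMap_end_apply]

instance AsMod.instIsScalarTower : IsScalarTower k (OpAlg k C) (AsMod k C V) :=
  ⟨fun c r v => by rw [Algebra.smul_def, mul_smul, algebraMap_smul']⟩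

section Free

variable [Module.Free k C]

/-- a subcomodule as a submodule -/
noncomputable def toSub (U : Submodule k V) (hU : IsSubcomod (k := k) (A := C) U) :
    Submodule (OpAlg k C) (AsMod k C V) where
  carrier := {v | (asMod k C).symm v ∈ U}
  zero_mem' := U.zero_mem
  add_mem' := U.add_mem
  smul_mem' r v hv := by
    change (asMod k C).symm (r • v) ∈ U
    induction r using FreeAlgebra.induction generalizing v with
    | grade0 c => rw [algebraMap_smul']; exact U.smul_mem c hv
    | grade1 f =>
      rw [show v = asMod k C ((asMod k C).symm v) from rfl, ι_smul]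
      exact isSubcomod_iff_op.1 hU f _ hv
    | mul a b ha hb => rw [mul_smul]; exact ha _ (hb _ hv)
    | add a b ha hb => rw [add_smul, map_add]; exact U.add_mem (ha _ hv) (hb _ hv)

/-- a submodule as a subspace -/
noncomputable def ofSub (N : Submodule (OpAlg k C) (AsMod k C V)) : Submodule k V :=
  (N.restrictScalars k).comap (asMod k C).toLinearMap

theorem isSubcomod_ofSub (N : Submodule (OpAlg k C) (AsMod k C V)) :
    IsSubcomod (k := k) (A := C) (ofSub N) :=
  isSubcomod_iff_op.2 fun f u hu => by
    change asMod k C (Comod.op f u) ∈ N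
    rw [← ι_smul]
    exact N.smul_mem _ hu

theorem mem_toSub {U : Submodule k V} {hU : IsSubcomod (k := k) (A := C) U} {v : AsMod k C V} :
    v ∈ toSub U hU ↔ (asMod k C).symm v ∈ U := Iff.rfl

theorem mem_ofSub {N : Submodule (OpAlg k C) (AsMod k C V)} {v : V} :
    v ∈ ofSub N ↔ asMod k C v ∈ N := Iff.rfl

theorem ofSub_toSub (U : Submodule k V) (hU : IsSubcomod (k := k) (A := C) U) :
    ofSub (toSub U hU) = U := rfl

theorem toSub_ofSub (N : Submodule (OpAlg k C) (AsMod k C V)) :
    toSub (ofSub N) (isSubcomod_ofSub N) = N := rfl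

theorem ofSub_mono {N N' : Submodule (OpAlg k C) (AsMod k C V)} : ofSub N ≤ ofSub N' ↔ N ≤ N' :=
  Iff.rfl

theorem toSub_mono {U U' : Submodule k V} {hU : IsSubcomod (k := k) (A := C) U}
    {hU' : IsSubcomod (k := k) (A := C) U'} : toSub U hU ≤ toSub U' hU' ↔ U ≤ U' := Iff.rfl

theorem toSub_eq_bot {U : Submodule k V} {hU : IsSubcomod (k := k) (A := C) U} :
    toSub U hU = ⊥ ↔ U = ⊥ :=
  ⟨fun h => (ofSub_toSub U hU).symm.trans (by rw [h]; rfl), fun h => by subst h; rfl⟩

theorem ofSub_bot : ofSub (⊥ : Submodule (OpAlg k C) (AsMod k C V)) = ⊥ := rfl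

theorem ofSub_top : ofSub (⊤ : Submodule (OpAlg k C) (AsMod k C V)) = ⊤ := rfl

theorem ofSub_injective : Function.Injective (ofSub (k := k) (C := C) (V := V)) := fun N N' h => by
  rw [← toSub_ofSub N, ← toSub_ofSub N']
  simp only [h]

/-- submodules are exactly the subcomodules -/
noncomputable def subEquiv :
    Submodule (OpAlg k C) (AsMod k C V) ≃o {U : Submodule k V // IsSubcomod (k := k) (A := C) U} where
  toFun N := ⟨ofSub N, isSubcomod_ofSub N⟩
  invFun U := toSub U.1 U.2
  left_inv _ := rfl
  right_inv _ := rfl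
  map_rel_iff' := Iff.rfl

theorem ofSub_sup (N N' : Submodule (OpAlg k C) (AsMod k C V)) :
    ofSub (N ⊔ N') = ofSub N ⊔ ofSub N' := by
  ext v
  simp only [mem_ofSub, Submodule.mem_sup]
  constructor
  · rintro ⟨a, ha, b, hb, h⟩
    exact ⟨(asMod k C).symm a, ha, (asMod k C).symm b, hb, h⟩
  · rintro ⟨a, ha, b, hb, h⟩
    exact ⟨asMod k C a, ha, asMod k C b, hb, congrArg (fun x : V => asMod k C x) h⟩

theorem ofSub_inf (N N' : Submodule (OpAlg k C) (AsMod k C V)) :
    ofSub (N ⊓ N') = ofSub N ⊓ ofSub N' := rfl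

theorem isSemisimpleComod_iff :
    IsSemisimpleComod k C V ↔ IsSemisimpleModule (OpAlg k C) (AsMod k C V) := by
  rw [isSemisimpleModule_iff, complementedLattice_iff]
  constructor
  · intro h N
    obtain ⟨U, hU, hc⟩ := h (ofSub N) (isSubcomod_ofSub N)
    refine ⟨toSub U hU, disjoint_iff.2 (ofSub_injective ?_), codisjoint_iff.2 (ofSub_injective ?_)⟩
    · rw [ofSub_inf, ofSub_toSub, ofSub_bot]; exact disjoint_iff.1 hc.1
    · rw [ofSub_sup, ofSub_toSub, ofSub_top]; exact codisjoint_iff.1 hc.2
  · intro h U hU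
    obtain ⟨N, hc⟩ := h (toSub U hU)
    refine ⟨ofSub N, isSubcomod_ofSub N, disjoint_iff.2 ?_, codisjoint_iff.2 ?_⟩
    · conv_lhs => rw [← ofSub_toSub U hU, ← ofSub_inf, disjoint_iff.1 hc.1, ofSub_bot]
    · conv_lhs => rw [← ofSub_toSub U hU, ← ofSub_sup, codisjoint_iff.1 hc.2, ofSub_top]

theorem isSimpleComod_iff :
    IsSimpleComod k C V ↔ IsSimpleModule (OpAlg k C) (AsMod k C V) := by
  rw [isSimpleModule_iff, isSimpleOrder_iff, Submodule.nontrivial_iff]
  refine and_congr Iff.rfl ⟨fun h N => ?_, fun h U hU => ?_⟩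
  · exact (h (ofSub N) (isSubcomod_ofSub N)).imp (fun e => ofSub_injective (e.trans ofSub_bot.symm))
      (fun e => ofSub_injective (e.trans ofSub_top.symm))
  · exact (h (toSub U hU)).imp (fun e => by rw [← ofSub_toSub U hU, e, ofSub_bot])
      (fun e => by rw [← ofSub_toSub U hU, e, ofSub_top])

variable {W : Type w'} [AddCommGroup W] [Module k W] [HopfRep.Comod k C W]

/-- a comodule map as a linear map -/
noncomputable def toHom (g : V →ₗ[k] W) (hg : Hoch.IsComodHom C g) :
    AsMod k C V →ₗ[OpAlg k C] AsMod k C W where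
  toFun v := asMod k C (g ((asMod k C).symm v))
  map_add' a b := by simp
  map_smul' r v := by
    simp only [RingHom.id_apply]
    induction r using FreeAlgebra.induction generalizing v with
    | grade0 c => simp [algebraMap_smul']
    | grade1 f =>
      rw [show v = asMod k C ((asMod k C).symm v) from rfl, ι_smul, LinearEquiv.symm_apply_apply,
        LinearEquiv.symm_apply_apply, ι_smul, isComodHom_iff_op.1 hg]
    | mul a b ha hb => rw [mul_smul, mul_smul, ha, hb]
    | add a b ha hb => rw [add_smul, add_smul, map_add, map_add, map_add, ha, hb]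

theorem toHom_apply (g : V →ₗ[k] W) (hg : Hoch.IsComodHom C g) (v : V) :
    toHom g hg (asMod k C v) = asMod k C (g v) := rfl

theorem toHom_injective {g : V →ₗ[k] W} (hg : Hoch.IsComodHom C g) (h : Function.Injective g) :
    Function.Injective (toHom g hg) := h

theorem toHom_surjective {g : V →ₗ[k] W} (hg : Hoch.IsComodHom C g) (h : Function.Surjective g) :
    Function.Surjective (toHom g hg) := h

/-- a linear map as a linear map of the underlying spaces -/
noncomputable def ofHom (F : AsMod k C V →ₗ[OpAlg k C] AsMod k C W) : V →ₗ[k] W :=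
  (asMod k C).symm.toLinearMap ∘ₗ F.restrictScalars k ∘ₗ (asMod k C).toLinearMap

theorem isComodHom_ofHom (F : AsMod k C V →ₗ[OpAlg k C] AsMod k C W) :
    Hoch.IsComodHom C (ofHom F) :=
  isComodHom_iff_op.2 fun f v => by
    change (asMod k C).symm (F (asMod k C (Comod.op f v))) = _
    rw [← ι_smul, map_smul]
    exact congrArg (asMod k C).symm (ι_smul f ((asMod k C).symm (F (asMod k C v))))

theorem ofSub_range (g : V →ₗ[k] W) (hg : Hoch.IsComodHom C g) :
    ofSub (LinearMap.range (toHom g hg)) = LinearMap.range g := rfl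

theorem ofSub_iSup {ι : Sort*} (N : ι → Submodule (OpAlg k C) (AsMod k C V)) :
    ofSub (⨆ i, N i) = ⨆ i, ofSub (N i) := by
  simp only [ofSub, Submodule.restrictScalars_iSup]
  rw [Submodule.comap_equiv_eq_map_symm, Submodule.map_iSup]
  simp only [Submodule.comap_equiv_eq_map_symm]

end Free

end GrothLib.Comodule
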