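import Mathlib.AlgebraicGeometry.Gluing
import Mathlib.AlgebraicGeometry.AffineScheme
import Mathlib.AlgebraicGeometry.OpenImmersion
import Mathlib.RingTheory.Localization.Away.Basic
import Mathlib.RingTheory.Spectrum.Prime.Topology
import Mathlib.Algebra.Category.Ring.Constructions

/-!
# Descent of morphisms along an invariant-theoretic quotient of affine schemes
-/


universe u

open AlgebraicGeometry CategoryTheory CategoryTheory.Limits PrimeSpectrum

namespace GrothLib.AffQuot

variable {C B : Type u} [CommRing C] [CommRing B] (φ : C →+* B)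

/-- the open immersion of a basic open -/
noncomputable abbrev basic (R : Type u) [CommRing R] (f : R) :
    Spec (CommRingCat.of (Localization.Away f)) ⟶ Spec (CommRingCat.of R) :=
  Spec.map (CommRingCat.ofHom (algebraMap R (Localization.Away f)))

theorem range_basic (R : Type u) [CommRing R] (f : R) :
    Set.range (basic R f) = (basicOpen f : Set (PrimeSpectrum R)) :=
  localization_away_comap_range _ f

/-- morphisms out of an affine scheme agree if they agree on a spanning family of basic opens -/
theorem basic_hom_ext {R : Type u} [CommRing R] {ι : Type u} (f : ι → R)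
    (hspan : Ideal.span (Set.range f) = ⊤) {Z : Scheme.{u}}
    (χ χ' : Spec (CommRingCat.of R) ⟶ Z)
    (h : ∀ i, basic R (f i) ≫ χ = basic R (f i) ≫ χ') : χ = χ' :=
  Scheme.Cover.hom_ext
    (Scheme.affineOpenCoverOfSpanRangeEqTop (R := CommRingCat.of R) f hspan).openCover χ χ' h

/-- the cover by a spanning family of basic opens -/
noncomputable def cover {R : Type u} [CommRing R] {ι : Type u} (f : ι → R)
    (hspan : Ideal.span (Set.range f) = ⊤) : (Spec (CommRingCat.of R)).OpenCover :=
  (Scheme.affineOpenCoverOfSpanRangeEqTop (R := CommRingCat.of R) f hspan).openCover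

/-- morphisms on a spanning family of basic opens glue -/
theorem exists_glue {R : Type u} [CommRing R] {ι : Type u} (f : ι → R)
    (hspan : Ideal.span (Set.range f) = ⊤) {Z : Scheme.{u}}
    (g : ∀ i, Spec (CommRingCat.of (Localization.Away (f i))) ⟶ Z)
    (h : ∀ i j, pullback.fst (basic R (f i)) (basic R (f j)) ≫ g i =
      pullback.snd (basic R (f i)) (basic R (f j)) ≫ g j) :
    ∃ χ : Spec (CommRingCat.of R) ⟶ Z, ∀ i, basic R (f i) ≫ χ = g i := by
  let G : ∀ i : (cover f hspan).I₀, (cover f hspan).X i ⟶ Z := g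
  have hG : ∀ i j, pullback.fst ((cover f hspan).f i) ((cover f hspan).f j) ≫ G i =
      pullback.snd _ _ ≫ G j := h
  exact ⟨Scheme.Cover.glueMorphisms (cover f hspan) G hG,
    fun i => Scheme.Cover.ι_glueMorphisms (cover f hspan) G hG i⟩

/-- covering basic opens span the unit ideal -/
theorem span_eq_top_of_mem {R : Type u} [CommRing R] (f : PrimeSpectrum R → R)
    (hf : ∀ p, p ∈ basicOpen (f p)) : Ideal.span (Set.range f) = ⊤ := by
  rw [← iSup_basicOpen_eq_top_iff, eq_top_iff]
  intro p _
  exact TopologicalSpace.Opens.mem_iSup.2 ⟨p, hf p⟩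

/-- the localised map -/
noncomputable abbrev awayMap (f : C) : Localization.Away f →+* Localization.Away (φ f) :=
  IsLocalization.Away.map _ _ φ f

theorem specMap_awayMap_comp (f : C) :
    Spec.map (CommRingCat.ofHom (awayMap φ f)) ≫ basic C f =
      basic B (φ f) ≫ Spec.map (CommRingCat.ofHom φ) := by
  rw [← Spec.map_comp, ← Spec.map_comp]
  congr 1
  ext c
  simp [awayMap, IsLocalization.Away.map, IsLocalization.map_eq]

theorem awayMap_injective (hinj : Function.Injective φ) (f : C) :
    Function.Injective (awayMap φ f) :=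
  (IsLocalization.Away.map_injective_iff _ φ f).2 fun a ha =>
    ⟨0, by rw [pow_zero, one_mul]; exact hinj (ha.trans (map_zero φ).symm)⟩

theorem comap_awayMap_surjective (hs : Function.Surjective (comap φ)) (f : C) :
    Function.Surjective (comap (awayMap φ f)) := by
  intro p
  obtain ⟨q, hq⟩ := hs (comap (algebraMap C (Localization.Away f)) p)
  have hf : q ∈ (basicOpen (φ f) : Set (PrimeSpectrum B)) := by
    have hp : comap (algebraMap C (Localization.Away f)) p ∈ basicOpen f :=
      (Set.ext_iff.1 (localization_away_comap_range (Localization.Away f) f) _).1 ⟨p, rfl⟩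
    rw [← hq] at hp
    exact hp
  obtain ⟨q', rfl⟩ := (Set.ext_iff.1 (localization_away_comap_range (Localization.Away (φ f)) (φ f)) _).2 hf
  refine ⟨q', (localization_comap_injective (Localization.Away f) (Submonoid.powers f)) ?_⟩
  rw [← hq, ← comap_comp_apply, ← comap_comp_apply]
  refine congrArg (fun h : C →+* Localization.Away (φ f) => comap h q') (RingHom.ext fun c => ?_)
  simp [awayMap, IsLocalization.Away.map, IsLocalization.map_eq]

/-- an injective ring map which is surjective on spectra gives an epimorphism of schemes -/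
theorem specMap_cancel (hinj : Function.Injective φ) (hs : Function.Surjective (comap φ))
    {Z : Scheme.{u}} (χ χ' : Spec (CommRingCat.of C) ⟶ Z)
    (h : Spec.map (CommRingCat.ofHom φ) ≫ χ = Spec.map (CommRingCat.ofHom φ) ≫ χ') : χ = χ' := by
  have hbase : ∀ p, χ p = χ' p := fun p => by
    obtain ⟨q, rfl⟩ := hs p
    exact congrArg (fun g : Spec (CommRingCat.of B) ⟶ Z => g q) h
  have loc : ∀ p : Spec (CommRingCat.of C), ∃ f : C, p ∈ (basicOpen f : Set (PrimeSpectrum C)) ∧
      basic C f ≫ χ = basic C f ≫ χ' := by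
    intro p
    obtain ⟨_, ⟨U, hU, rfl⟩, hpU, -⟩ :=
      Z.isBasis_affineOpens.exists_subset_of_mem_open (Set.mem_univ (χ p)) isOpen_univ
    obtain ⟨_, ⟨f, rfl⟩, hpf, hfU⟩ :=
      isTopologicalBasis_basic_opens.exists_subset_of_mem_open
        (show p ∈ χ ⁻¹' U from hpU) (U.isOpen.preimage χ.continuous)
    refine ⟨f, hpf, ?_⟩
    have : IsOpenImmersion hU.fromSpec := hU.isOpenImmersion_fromSpec
    have hr : ∀ g : Spec (CommRingCat.of C) ⟶ Z, (∀ p, g p = χ p) →
        Set.range (basic C f ≫ g) ⊆ Set.range hU.fromSpec := by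
      rintro g hg _ ⟨z, rfl⟩
      rw [hU.range_fromSpec]
      have : basic C f z ∈ (basicOpen f : Set (PrimeSpectrum C)) :=
        (range_basic C f).le ⟨z, rfl⟩
      have := hfU this
      change g (basic C f z) ∈ U
      rw [hg]
      exact this
    let g₁ := IsOpenImmersion.lift hU.fromSpec (basic C f ≫ χ) (hr χ fun _ => rfl)
    let g₂ := IsOpenImmersion.lift hU.fromSpec (basic C f ≫ χ') (hr χ' fun q => (hbase q).symm)
    have h1 : Spec.map (CommRingCat.ofHom (awayMap φ f)) ≫ g₁ =
        Spec.map (CommRingCat.ofHom (awayMap φ f)) ≫ g₂ := by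
      rw [← cancel_mono hU.fromSpec]
      simp only [g₁, g₂, Category.assoc, IsOpenImmersion.lift_fac]
      rw [← Category.assoc, specMap_awayMap_comp, ← Category.assoc _ (basic C f),
        specMap_awayMap_comp, Category.assoc, Category.assoc, h]
    have h2 : Spec.preimage g₁ = Spec.preimage g₂ := by
      rw [← Spec.map_preimage g₁, ← Spec.map_preimage g₂, ← Spec.map_comp, ← Spec.map_comp,
        Spec.map_inj] at h1
      ext r
      exact awayMap_injective φ hinj f (congrArg (fun k => k.hom r) h1)
    rw [← IsOpenImmersion.lift_fac hU.fromSpec (basic C f ≫ χ) (hr χ fun _ => rfl),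
      ← IsOpenImmersion.lift_fac hU.fromSpec (basic C f ≫ χ') (hr χ' fun q => (hbase q).symm)]
    change g₁ ≫ _ = g₂ ≫ _
    rw [← Spec.map_preimage g₁, h2, Spec.map_preimage]
  choose f hf hfχ using loc
  exact basic_hom_ext f (span_eq_top_of_mem f hf) χ χ' hfχ

/-- lift to a localisation of a map inverting `b` -/
theorem specMap_awayLift_comp {B' D' : Type u} [CommRing B'] [CommRing D'] (g : B' →+* D') (b : B')
    (F : D') (u : IsUnit (((algebraMap D' (Localization.Away F)).comp g) b)) :
    Spec.map (CommRingCat.ofHom (IsLocalization.Away.lift (S := Localization.Away b) b u)) ≫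
        basic B' b = basic D' F ≫ Spec.map (CommRingCat.ofHom g) := by
  rw [← Spec.map_comp, ← Spec.map_comp, ← CommRingCat.ofHom_comp, ← CommRingCat.ofHom_comp,
    IsLocalization.Away.lift_comp]

variable {D : Type u} [CommRing D] (ρ ι : B →+* D)

/-- elements of a localisation on which both maps agree come from the localised subring -/
theorem mem_range_awayMap (heq : ρ.comp φ = ι.comp φ) (hker : ∀ b, ρ b = ι b → b ∈ φ.range)
    (c : C) (F : D) (hF : F = ρ (φ c))
    (u₁ : IsUnit (((algebraMap D (Localization.Away F)).comp ρ) (φ c)))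
    (u₂ : IsUnit (((algebraMap D (Localization.Away F)).comp ι) (φ c)))
    (x : Localization.Away (φ c))
    (h : IsLocalization.Away.lift (φ c) u₁ x = IsLocalization.Away.lift (φ c) u₂ x) :
    x ∈ (awayMap φ c).range := by
  have hFι : F = ι (φ c) := hF.trans (DFunLike.congr_fun heq c)
  obtain ⟨n, b, hb⟩ := IsLocalization.Away.surj (φ c) x
  have h3 : algebraMap D (Localization.Away F) (ρ b) = algebraMap D (Localization.Away F) (ι b) := by
    have h4 := congrArg (fun z => IsLocalization.Away.lift (φ c) u₁ z) hb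
    have h5 := congrArg (fun z => IsLocalization.Away.lift (φ c) u₂ z) hb
    simp only [map_mul, map_pow, IsLocalization.Away.lift_eq, RingHom.comp_apply] at h4 h5
    rw [← h4, ← h5, h, ← hF, ← hFι]
  obtain ⟨⟨_, m, rfl⟩, hm⟩ := (IsLocalization.eq_iff_exists (Submonoid.powers F) _).1 h3
  obtain ⟨a, ha⟩ := hker (φ c ^ m * b) (by
    rw [map_mul, map_mul, map_pow ρ, map_pow ι, ← hF, ← hFι]
    exact hm)
  refine ⟨IsLocalization.mk' _ a (⟨c ^ (m + n), m + n, rfl⟩ : Submonoid.powers c), ?_⟩
  rw [awayMap, IsLocalization.Away.map, IsLocalization.map_mk', IsLocalization.mk'_eq_iff_eq_mul, ha]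
  simp only [map_mul, map_pow, pow_add]
  rw [← hb]
  ring

/-- local descent -/
theorem exists_local_desc (hinj : Function.Injective φ)
    (heq : ρ.comp φ = ι.comp φ) (hker : ∀ b, ρ b = ι b → b ∈ φ.range)
    {Z : Scheme.{u}} (ψ : Spec (CommRingCat.of B) ⟶ Z)
    (hψ : Spec.map (CommRingCat.ofHom ρ) ≫ ψ = Spec.map (CommRingCat.ofHom ι) ≫ ψ)
    {U : Z.Opens} (hU : IsAffineOpen U) (c : C)
    (hr : Set.range (basic B (φ c) ≫ ψ) ⊆ Set.range hU.fromSpec) :
    ∃ g : Spec (CommRingCat.of (Localization.Away c)) ⟶ Z,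
      Spec.map (CommRingCat.ofHom (awayMap φ c)) ≫ g = basic B (φ c) ≫ ψ := by
  have : IsOpenImmersion hU.fromSpec := hU.isOpenImmersion_fromSpec
  obtain ⟨θ, hθ⟩ : ∃ θ, Spec.map θ ≫ hU.fromSpec = basic B (φ c) ≫ ψ :=
    ⟨Spec.preimage (IsOpenImmersion.lift hU.fromSpec (basic B (φ c) ≫ ψ) hr), by
      rw [Spec.map_preimage, IsOpenImmersion.lift_fac]⟩
  have u₁ : IsUnit (((algebraMap D (Localization.Away (ρ (φ c)))).comp ρ) (φ c)) :=
    IsLocalization.Away.algebraMap_isUnit (ρ (φ c))
  have u₂ : IsUnit (((algebraMap D (Localization.Away (ρ (φ c)))).comp ι) (φ c)) := by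
    rw [RingHom.comp_apply, show ι (φ c) = ρ (φ c) from (DFunLike.congr_fun heq c).symm]
    exact IsLocalization.Away.algebraMap_isUnit (ρ (φ c))
  have h1 : Spec.map (θ ≫ CommRingCat.ofHom (IsLocalization.Away.lift (S := Localization.Away (φ c)) (φ c) u₁)) =
      Spec.map (θ ≫ CommRingCat.ofHom (IsLocalization.Away.lift (S := Localization.Away (φ c)) (φ c) u₂)) := by
    rw [← cancel_mono hU.fromSpec, Spec.map_comp, Spec.map_comp, Category.assoc, Category.assoc, hθ,
      ← Category.assoc, specMap_awayLift_comp, ← Category.assoc _ (basic B (φ c)),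
      specMap_awayLift_comp, Category.assoc, Category.assoc, hψ]
  have hmem : ∀ r, θ.hom r ∈ (awayMap φ c).range := fun r =>
    mem_range_awayMap φ ρ ι heq hker c _ rfl u₁ u₂ _
      (congrArg (fun k => k.hom r) (Spec.map_inj.1 h1))
  let e := RingEquiv.ofBijective (awayMap φ c).rangeRestrict
    ⟨fun a b h => awayMap_injective φ hinj c (congrArg Subtype.val h),
      RingHom.rangeRestrict_surjective _⟩
  let θ' := e.symm.toRingHom.comp (θ.hom.codRestrict (awayMap φ c).range hmem)
  refine ⟨Spec.map (CommRingCat.ofHom θ') ≫ hU.fromSpec, ?_⟩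
  rw [← hθ, ← Category.assoc, ← Spec.map_comp]
  congr 2
  ext r
  exact congrArg Subtype.val (e.apply_symm_apply ⟨θ.hom r, hmem r⟩)


/-- descent along the quotient -/
theorem existsUnique_desc (hinj : Function.Injective φ) (hs : Function.Surjective (comap φ))
    (heq : ρ.comp φ = ι.comp φ) (hker : ∀ b, ρ b = ι b → b ∈ φ.range)
    {Z : Scheme.{u}} (ψ : Spec (CommRingCat.of B) ⟶ Z)
    (hψ : Spec.map (CommRingCat.ofHom ρ) ≫ ψ = Spec.map (CommRingCat.ofHom ι) ≫ ψ)
    (hcov : ∀ p : PrimeSpectrum C, ∃ U : Z.Opens, IsAffineOpen U ∧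
      ∃ f : C, p ∈ basicOpen f ∧ (basicOpen (φ f) : Set (PrimeSpectrum B)) ⊆ ψ ⁻¹' U) :
    ∃! χ : Spec (CommRingCat.of C) ⟶ Z, Spec.map (CommRingCat.ofHom φ) ≫ χ = ψ := by
  choose U hU f hf hfU using hcov
  have hr : ∀ p, Set.range (basic B (φ (f p)) ≫ ψ) ⊆ Set.range (hU p).fromSpec := by
    rintro p _ ⟨z, rfl⟩
    rw [(hU p).range_fromSpec]
    exact hfU p ((range_basic B (φ (f p))).le ⟨z, rfl⟩)
  have hloc := fun p => exists_local_desc φ ρ ι hinj heq hker ψ hψ (hU p) (f p) (hr p)
  choose g hg using hloc
  have hspan := span_eq_top_of_mem f hf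
  have hagree : ∀ x y : PrimeSpectrum C,
      pullback.fst (basic C (f x)) (basic C (f y)) ≫ g x =
        pullback.snd (basic C (f x)) (basic C (f y)) ≫ g y := by
    intro x y
    let j := pullback.fst (basic C (f x)) (basic C (f y)) ≫ basic C (f x)
    have hrange : Set.range (basic C (f x * f y)) = Set.range j := by
      rw [IsOpenImmersion.range_pullback_to_base_of_left, range_basic, range_basic, range_basic,
        basicOpen_mul]
      rfl
    let e := IsOpenImmersion.isoOfRangeEq (basic C (f x * f y)) j hrange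
    rw [← cancel_epi e.hom]
    have hj : e.hom ≫ j = basic C (f x * f y) := IsOpenImmersion.lift_fac _ _ _
    have hrB : ∀ z, (basicOpen (φ (f x * f y)) : Set (PrimeSpectrum B)) ⊆ basicOpen (φ z) →
        Set.range (basic B (φ (f x * f y))) ⊆ Set.range (basic B (φ z)) := fun z h => by
      rwa [range_basic, range_basic]
    have key : ∀ (z : PrimeSpectrum C)
        (h : Spec (CommRingCat.of (Localization.Away (f x * f y))) ⟶
          Spec (CommRingCat.of (Localization.Away (f z)))),
        h ≫ basic C (f z) = basic C (f x * f y) →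
        (basicOpen (φ (f x * f y)) : Set (PrimeSpectrum B)) ⊆ basicOpen (φ (f z)) →
        Spec.map (CommRingCat.ofHom (awayMap φ (f x * f y))) ≫ h ≫ g z =
          basic B (φ (f x * f y)) ≫ ψ := by
      intro z h hh hsub
      let hB := IsOpenImmersion.lift (basic B (φ (f z))) (basic B (φ (f x * f y))) (hrB _ hsub)
      have h1 : Spec.map (CommRingCat.ofHom (awayMap φ (f x * f y))) ≫ h =
          hB ≫ Spec.map (CommRingCat.ofHom (awayMap φ (f z))) := by
        rw [← cancel_mono (basic C (f z)), Category.assoc, hh, specMap_awayMap_comp, Category.assoc,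
          specMap_awayMap_comp, IsOpenImmersion.lift_fac_assoc]
      rw [← Category.assoc, h1, Category.assoc, hg, IsOpenImmersion.lift_fac_assoc]
    refine specMap_cancel (awayMap φ (f x * f y)) (awayMap_injective φ hinj _)
      (comap_awayMap_surjective φ hs _) _ _ ?_
    rw [← Category.assoc e.hom, ← Category.assoc e.hom, key x, key y]
    · rw [Category.assoc, ← pullback.condition]
      exact hj
    · rw [map_mul, basicOpen_mul]; exact inf_le_right
    · rw [Category.assoc]
      exact hj
    · rw [map_mul, basicOpen_mul]; exact inf_le_left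
  obtain ⟨χ, hχ⟩ := exists_glue f hspan g hagree
  refine ⟨χ, ?_, fun χ' hχ' => ?_⟩
  · have hspanB : Ideal.span (Set.range fun p => φ (f p)) = ⊤ := by
      rw [Set.range_comp', ← Ideal.map_span, hspan, Ideal.map_top]
    refine basic_hom_ext (fun p => φ (f p)) hspanB _ _ fun p => ?_
    rw [← Category.assoc, ← specMap_awayMap_comp, Category.assoc, hχ, hg]
  · refine basic_hom_ext f hspan _ _ fun p => ?_
    rw [hχ]
    refine specMap_cancel (awayMap φ (f p)) (awayMap_injective φ hinj _)
      (comap_awayMap_surjective φ hs _) _ _ ?_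
    rw [hg, ← Category.assoc, specMap_awayMap_comp, Category.assoc, hχ']

end GrothLib.AffQuot
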