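import Groth.Agent.Lib.Comod.Cosemi
import Groth.Agent.Lib.Hopf.Antipode
import Groth.Prelude.Def_ComodTens
import Groth.Prelude.Def_ComodDual

/-!
# Coefficients of tensor constructions
-/

universe u v w w'

open TensorProduct HopfRep

namespace GrothLib.Comodule

variable {k : Type u} [Field k] {A : Type v} [CommRing A] [Bialgebra k A]
  {V : Type w} [AddCommGroup V] [Module k V] {W : Type w'} [AddCommGroup W] [Module k W]

/-- coefficient map of an explicit structure -/
noncomputable def cfOf (c : HopfRep.Comod k A V) (φ : Module.Dual k V) : V →ₗ[k] A :=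
  @cfMap k _ A _ _ _ V _ _ c φ

/-- coefficient space of an explicit structure -/
noncomputable def coeffOf (c : HopfRep.Comod k A V) : Submodule k A := @coeff k _ A _ _ _ V _ _ c

theorem cfOf_apply (c : HopfRep.Comod k A V) (φ : Module.Dual k V) (v : V) :
    cfOf c φ v = TensorProduct.lid k A (φ.rTensor A (c.coact v)) := rfl

theorem cfOf_mem (c : HopfRep.Comod k A V) (φ : Module.Dual k V) (v : V) :
    cfOf c φ v ∈ coeffOf c :=
  @cfMap_mem_coeff k _ A _ _ _ V _ _ c φ v

theorem cfOf_ofEquiv (c : HopfRep.Comod k A V) (e : V ≃ₗ[k] W) (φ : Module.Dual k V) (v : V) :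
    cfOf (ComodTens.Comod.ofEquiv e c) (φ ∘ₗ e.symm.toLinearMap) (e v) = cfOf c φ v := by
  rw [cfOf_apply, cfOf_apply, ComodTens.ofEquiv_coact_apply, ← LinearMap.comp_apply,
    ← LinearMap.rTensor_comp, LinearMap.comp_assoc, LinearEquiv.symm_comp, LinearMap.comp_id]

theorem coeffOf_le_ofEquiv (c : HopfRep.Comod k A V) (e : V ≃ₗ[k] W) :
    coeffOf c ≤ coeffOf (ComodTens.Comod.ofEquiv e c) := by
  refine iSup_le fun φ => ?_
  rintro _ ⟨v, rfl⟩
  change cfOf c φ v ∈ _
  rw [← cfOf_ofEquiv c e]
  exact cfOf_mem _ _ _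

theorem cfOf_tensor (c : HopfRep.Comod k A V) (d : HopfRep.Comod k A W) (φ : Module.Dual k V)
    (ψ : Module.Dual k W) (v : V) (w : W) :
    cfOf (ComodTens.Comod.tensor c d) ((TensorProduct.lid k k).toLinearMap ∘ₗ TensorProduct.map φ ψ)
      (v ⊗ₜ w) = cfOf c φ v * cfOf d ψ w := by
  rw [cfOf_apply, cfOf_apply, cfOf_apply, ComodTens.tensor_coact_tmul]
  induction c.coact v using TensorProduct.induction_on with
  | zero => simp
  | tmul p a =>
    induction d.coact w using TensorProduct.induction_on with
    | zero => simp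
    | tmul q b => simp [smul_mul_assoc, smul_smul, mul_comm (φ p)]
    | add x y hx hy => simp only [TensorProduct.tmul_add, map_add, mul_add, hx, hy]
  | add x y hx hy => simp only [TensorProduct.add_tmul, map_add, add_mul, hx, hy]

theorem mul_mem_coeffOf_tensor {c : HopfRep.Comod k A V} {d : HopfRep.Comod k A W} {a b : A}
    (ha : a ∈ coeffOf c) (hb : b ∈ coeffOf d) : a * b ∈ coeffOf (ComodTens.Comod.tensor c d) := by
  have key : ∀ (φ : Module.Dual k V) (v : V), cfOf c φ v * b ∈ coeffOf (ComodTens.Comod.tensor c d) := by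
    intro φ v
    induction hb using Submodule.iSup_induction' with
    | mem ψ y hy =>
      obtain ⟨w, rfl⟩ := hy
      change cfOf c φ v * cfOf d ψ w ∈ _
      rw [← cfOf_tensor]
      exact cfOf_mem _ _ _
    | zero => simp
    | add x y _ _ hx hy => rw [mul_add]; exact add_mem hx hy
  induction ha using Submodule.iSup_induction' with
  | mem φ y hy =>
    obtain ⟨v, rfl⟩ := hy
    exact key φ v
  | zero => simp
  | add x y _ _ hx hy => rw [add_mul]; exact add_mem hx hy

theorem coeffOf_inl_le (c : HopfRep.Comod k A V) (d : HopfRep.Comod k A W) :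
    coeffOf c ≤ coeffOf (ComodTens.Comod.prod c d) := by
  refine iSup_le fun φ => ?_
  rintro _ ⟨v, rfl⟩
  change cfOf c φ v ∈ _
  have h : cfOf c φ v = cfOf (ComodTens.Comod.prod c d) (φ ∘ₗ LinearMap.fst k V W) (v, 0) := by
    rw [cfOf_apply, cfOf_apply, ComodTens.prod_coact, map_zero, map_zero, add_zero]
    induction c.coact v using TensorProduct.induction_on with
    | zero => simp
    | tmul p q => simp
    | add x y hx hy => simp only [map_add, hx, hy]
  rw [h]
  exact cfOf_mem _ _ _

theorem coeffOf_inr_le (c : HopfRep.Comod k A V) (d : HopfRep.Comod k A W) :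
    coeffOf d ≤ coeffOf (ComodTens.Comod.prod c d) := by
  refine iSup_le fun φ => ?_
  rintro _ ⟨v, rfl⟩
  change cfOf d φ v ∈ _
  have h : cfOf d φ v = cfOf (ComodTens.Comod.prod c d) (φ ∘ₗ LinearMap.snd k V W) (0, v) := by
    rw [cfOf_apply, cfOf_apply, ComodTens.prod_coact, map_zero, map_zero, zero_add]
    induction d.coact v using TensorProduct.induction_on with
    | zero => simp
    | tmul p q => simp
    | add x y hx hy => simp only [map_add, hx, hy]
  rw [h]
  exact cfOf_mem _ _ _

/-- the coefficients of all tensor powers contain the algebra generated by the coefficients -/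
theorem adjoin_le_iSup_tpow (c : HopfRep.Comod k A V) :
    Subalgebra.toSubmodule (Algebra.adjoin k (coeffOf c : Set A)) ≤
      ⨆ m : ℕ, coeffOf (ComodTens.Comod.tpow c m) := by
  rw [Algebra.adjoin_eq_span, Submodule.span_le]
  intro x hx
  induction hx using Submonoid.closure_induction_right with
  | one =>
    refine Submodule.mem_iSup_of_mem 0 ?_
    rw [ComodTens.tpow_zero]
    refine coeffOf_le_ofEquiv _ _ ?_
    have h : cfOf (HopfRep.Comod.trivial k A k) (LinearMap.id : k →ₗ[k] k) 1 = (1 : A) := by
      simp [cfOf_apply, HopfRep.Comod.trivial]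
    rw [← h]
    exact cfOf_mem _ _ _
  | mul_right x hxc y hy hx' =>
    clear hxc
    induction hx' using Submodule.iSup_induction' with
    | mem m z hz =>
      refine Submodule.mem_iSup_of_mem (m + 1) ?_
      rw [ComodTens.tpow_succ]
      exact coeffOf_le_ofEquiv _ _ (mul_mem_coeffOf_tensor hz (coeffOf_le_ofEquiv _ _ hy))
    | zero => simp
    | add a b _ _ ha hb => rw [add_mul]; exact add_mem ha hb

end GrothLib.Comodule
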