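import Groth.Agent.Lib.Comod.Basic
import Groth.Agent.Lib.Hopf.Antipode
import Groth.Prelude.Def_GLin
import Groth.Prelude.Def_W4c1tameactTame
import Mathlib.RingTheory.HopfAlgebra.Basic

/-!
# Averaging by a total integral
-/

universe u v w w'

open TensorProduct HopfRep

namespace GrothLib.Comodule

section Identity

variable {k : Type u} [CommRing k] {A : Type v} [CommRing A] [HopfAlgebra k A]

/-- `∑ (1 ⊗ a₁) Δ (S a₂) = S a ⊗ 1` -/
theorem one_tmul_mul_comul_antipode (a : A) :
    (LinearMap.mul' k (A ⊗[k] A)) (TensorProduct.map (TensorProduct.mk k A A 1)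
      (Coalgebra.comul (R := k) ∘ₗ HopfAlgebraStruct.antipode k) (Coalgebra.comul (R := k) a)) =
      HopfAlgebraStruct.antipode k a ⊗ₜ[k] (1 : A) := by
  set S := HopfAlgebraStruct.antipode (R := k) (A := A)
  let Φ : A ⊗[k] (A ⊗[k] A) →ₗ[k] A ⊗[k] A := LinearMap.mul' k (A ⊗[k] A) ∘ₗ
    TensorProduct.map (TensorProduct.mk k A A 1)
      (TensorProduct.map S S ∘ₗ (TensorProduct.comm k A A).toLinearMap)
  let ψ : A ⊗[k] A →ₗ[k] A := LinearMap.mul' k A ∘ₗ S.lTensor A
  have hΦ : ∀ x y z : A, Φ (x ⊗ₜ (y ⊗ₜ z)) =
      TensorProduct.comm k A A (TensorProduct.map ψ S ((x ⊗ₜ y) ⊗ₜ z)) := fun x y z => by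
    simp [Φ, ψ]
  have h1 : ∀ u : (A ⊗[k] A) ⊗[k] A, Φ (TensorProduct.assoc k A A A u) =
      TensorProduct.comm k A A (TensorProduct.map ψ S u) := fun u => by
    induction u using TensorProduct.induction_on with
    | zero => simp
    | tmul p z =>
      induction p using TensorProduct.induction_on with
      | zero => simp
      | tmul x y => exact hΦ x y z
      | add p q hp hq => simp only [TensorProduct.add_tmul, map_add, hp, hq]
    | add p q hp hq => simp only [map_add, hp, hq]
  have hψ : ψ ∘ₗ Coalgebra.comul (R := k) = Algebra.linearMap k A ∘ₗ Coalgebra.counit :=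
    LinearMap.ext fun x => HopfAlgebra.mul_antipode_lTensor_comul_apply x
  calc _ = Φ ((Coalgebra.comul (R := k) (A := A)).lTensor A (Coalgebra.comul (R := k) a)) := by
        induction Coalgebra.comul (R := k) a using TensorProduct.induction_on with
        | zero => simp
        | tmul p q =>
          simp only [TensorProduct.map_tmul, LinearMap.comp_apply]
          rw [show Coalgebra.comul (R := k) (S q) = _ from GrothLib.Hopf.comul_antipode (R := k) q]
          rfl
        | add p q hp hq => simp only [map_add, hp, hq]
    _ = _ := by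
      rw [← Coalgebra.coassoc_apply, h1, LinearMap.map_rTensor, hψ, ← LinearMap.map_rTensor,
        Coalgebra.rTensor_counit_comul]
      simp

end Identity

variable {k : Type u} [CommRing k] {A : Type v} [CommRing A] [HopfAlgebra k A]
  {B : Type w} [CommRing B] [Algebra k B]
  {M : Type w'} [AddCommGroup M] [Module k M] [Module B M] [IsScalarTower k B M]
  [HopfRep.Comod k A M] (α : A →ₗ[k] B)

/-- `m ⊗ b ↦ ∑ α (S m₁ b) • m₀` on pure tensors, as a function of `b` -/
noncomputable def tweak (b : A) : M ⊗[k] A →ₗ[k] M :=
  TensorProduct.lift ((Algebra.lsmul k k M : B →ₐ[k] Module.End k M).toLinearMap ∘ₗ α ∘ₗ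
    LinearMap.mulRight k b ∘ₗ HopfAlgebraStruct.antipode k).flip

theorem tweak_tmul (b : A) (p : M) (q : A) :
    tweak α b (p ⊗ₜ q) = α (HopfAlgebraStruct.antipode k q * b) • p := rfl

/-- `tweak` as a linear map in `b` -/
noncomputable def tweakL : A →ₗ[k] M ⊗[k] A →ₗ[k] M :=
  LinearMap.mk₂ k (fun (b : A) (x : M ⊗[k] A) => tweak α b x)
    (fun b b' x => by
      induction x using TensorProduct.induction_on with
      | zero => simp
      | tmul p q => simp [tweak_tmul, mul_add, add_smul]
      | add p q hp hq => simp only [map_add, hp, hq]; abel)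
    (fun c b x => by
      induction x using TensorProduct.induction_on with
      | zero => simp
      | tmul p q => simp [tweak_tmul, smul_assoc]
      | add p q hp hq => simp only [map_add, hp, hq, smul_add])
    (fun b x x' => map_add _ _ _) (fun c b x => map_smul _ _ _)

theorem tweakL_apply (b : A) (x : M ⊗[k] A) : tweakL α b x = tweak α b x := rfl

/-- the averaging map `M ⊗ A → M` -/
noncomputable def avg : Hoch.Ind k A M →ₗ[k] M :=
  TensorProduct.lift ((tweakL α).flip ∘ₗ HopfRep.Comod.coact (k := k) (A := A)) ∘ₗ
    (Hoch.Ind.equiv k A M).symm.toLinearMap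

theorem avg_tmul (m : M) (b : A) :
    avg α (Hoch.Ind.equiv k A M (m ⊗ₜ b)) =
      tweak α b (HopfRep.Comod.coact (k := k) (A := A) m) := rfl

theorem reynolds_eq_avg (m : M) :
    TameAct.reynolds k A B M α m = avg α (Hoch.Ind.equiv k A M (m ⊗ₜ (1 : A))) := by
  rw [avg_tmul]
  change TensorProduct.lift _ (HopfRep.Comod.coact (k := k) (A := A) m) = _
  induction HopfRep.Comod.coact (k := k) (A := A) m using TensorProduct.induction_on with
  | zero => simp
  | tmul p q => simp [tweak_tmul]
  | add p q hp hq => simp only [map_add, hp, hq]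

theorem avg_toInd (h1 : α 1 = 1) (m : M) : avg α (Hoch.toInd k A M m) = m := by
  have h2 := LinearMap.congr_fun (HopfRep.Comod.coassoc (k := k) (A := A) (V := M)) m
  simp only [LinearMap.comp_apply, LinearEquiv.coe_coe] at h2
  let P : M ⊗[k] (A ⊗[k] A) →ₗ[k] M :=
    TensorProduct.lift ((Algebra.lsmul k k M : B →ₐ[k] Module.End k M).toLinearMap ∘ₗ α ∘ₗ
      LinearMap.mul' k A ∘ₗ (HopfAlgebraStruct.antipode k).rTensor A).flip
  have hP : ∀ y : M ⊗[k] A, avg α (Hoch.Ind.equiv k A M y) = P (TensorProduct.assoc k M A A
      ((HopfRep.Comod.coact (k := k) (A := A)).rTensor A y)) := fun y => by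
    induction y using TensorProduct.induction_on with
    | zero => simp
    | tmul p q =>
      rw [avg_tmul, LinearMap.rTensor_tmul]
      induction HopfRep.Comod.coact (k := k) (A := A) p using TensorProduct.induction_on with
      | zero => simp
      | tmul a c => simp [tweak_tmul, P]
      | add a c ha hc => simp only [TensorProduct.add_tmul, map_add, ha, hc]
    | add a c ha hc => simp only [map_add, ha, hc]
  change avg α (Hoch.Ind.equiv k A M (HopfRep.Comod.coact (k := k) (A := A) m)) = m
  rw [hP, h2]
  have hc := LinearMap.congr_fun (HopfRep.Comod.counit_comp (k := k) (A := A) (V := M)) m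
  simp only [LinearMap.comp_apply, LinearMap.flip_apply, TensorProduct.mk_apply] at hc
  have h3 : ∀ y : M ⊗[k] A, P ((Coalgebra.comul (R := k) (A := A)).lTensor M y) =
      TensorProduct.rid k M ((Coalgebra.counit (R := k) (A := A)).lTensor M y) := fun y => by
    induction y using TensorProduct.induction_on with
    | zero => simp
    | tmul p q =>
      change α (LinearMap.mul' k A ((HopfAlgebraStruct.antipode k).rTensor A
        (Coalgebra.comul (R := k) q))) • p = _
      rw [HopfAlgebra.mul_antipode_rTensor_comul_apply, Algebra.algebraMap_eq_smul_one, map_smul, h1]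
      simp
    | add a c ha hc => simp only [map_add, ha, hc]
  rw [h3]
  exact (congrArg (TensorProduct.rid k M) hc).trans (by simp)

variable [HopfRep.Comod k A B] [TameAct.IsHopfMod k A B M]

theorem isComodHom_avg (hα : Hoch.IsComodHom A α) : Hoch.IsComodHom A (avg (M := M) α) := by
  refine LinearMap.ext fun z => ?_
  rw [← LinearEquiv.apply_symm_apply (Hoch.Ind.equiv k A M) z]
  induction (Hoch.Ind.equiv k A M).symm z using TensorProduct.induction_on with
  | zero => simp
  | tmul m b =>
    rw [LinearMap.comp_apply, avg_tmul, LinearMap.comp_apply, Hoch.Ind.coact_equiv_tmul]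
    set ρ := HopfRep.Comod.coact (k := k) (A := A) (V := M)
    let act : M → A ⊗[k] A →ₗ[k] M ⊗[k] A := fun p =>
      (((Algebra.lsmul k k M : B →ₐ[k] Module.End k M).toLinearMap ∘ₗ α).flip p).rTensor A
    let H : A ⊗[k] A →ₗ[k] A ⊗[k] A := LinearMap.mulRight k (Coalgebra.comul (R := k) b) ∘ₗ
      LinearMap.mul' k (A ⊗[k] A) ∘ₗ TensorProduct.map (TensorProduct.mk k A A 1)
        (Coalgebra.comul (R := k) ∘ₗ HopfAlgebraStruct.antipode k)
    let G : M ⊗[k] (A ⊗[k] A) →ₗ[k] M ⊗[k] A :=
      TensorProduct.lift (LinearMap.mk₂ k (fun (p : M) (w : A ⊗[k] A) => act p (H w))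
        (fun p p' w => by
          simp only [act, map_add, LinearMap.rTensor_add, LinearMap.add_apply])
        (fun c p w => by
          simp only [act, map_smul, LinearMap.rTensor_smul, LinearMap.smul_apply])
        (fun p w w' => by simp only [map_add]) (fun c p w => by simp only [map_smul]))
    have hG : ∀ x : M ⊗[k] A, ρ (tweak α b x) =
        G (TensorProduct.assoc k M A A (ρ.rTensor A x)) := fun x => by
      induction x using TensorProduct.induction_on with
      | zero => simp
      | tmul p q =>
        rw [tweak_tmul, TameAct.IsHopfMod.coact_smul, IsComodHom.apply hα, LinearMap.rTensor_tmul]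
        change TameAct.hmSMul k A B M (α.rTensor A (Coalgebra.comul (R := k) _)) (ρ p) = _
        rw [Bialgebra.comul_mul]
        induction ρ p using TensorProduct.induction_on with
        | zero => simp
        | tmul r s =>
          change _ = act r (((1 : A) ⊗ₜ[k] s) *
            Coalgebra.comul (R := k) (HopfAlgebraStruct.antipode k q) * Coalgebra.comul (R := k) b)
          rw [mul_assoc]
          induction Coalgebra.comul (R := k) (HopfAlgebraStruct.antipode k q) *
            Coalgebra.comul (R := k) b using TensorProduct.induction_on with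
          | zero => simp
          | tmul x y => simp [act, mul_comm]
          | add x y hx hy => simp only [mul_add, map_add, LinearMap.add_apply, hx, hy]
        | add r s hr hs => simp only [TensorProduct.add_tmul, map_add, hr, hs]
      | add x y hx hy => simp only [map_add, hx, hy]
    have h2 := LinearMap.congr_fun (HopfRep.Comod.coassoc (k := k) (A := A) (V := M)) m
    simp only [LinearMap.comp_apply, LinearEquiv.coe_coe] at h2
    rw [hG, h2]
    change _ = (avg (M := M) α ∘ₗ (Hoch.Ind.equiv k A M).toLinearMap).rTensor A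
      ((TensorProduct.assoc k M A A).symm (m ⊗ₜ Coalgebra.comul (R := k) b))
    let Ψ : A ⊗[k] A →ₗ[k] M ⊗[k] A →ₗ[k] M ⊗[k] A := TensorProduct.lift
      (((LinearMap.llcomp k (M ⊗[k] A) M (M ⊗[k] A)).flip.comp (tweakL α)).compl₂
        (TensorProduct.mk k M A).flip)
    have hΨ : ∀ x z y, Ψ (x ⊗ₜ z) y = tweak α x y ⊗ₜ[k] z := fun x z y => rfl
    have h4 : ∀ w : A ⊗[k] A, (avg (M := M) α ∘ₗ (Hoch.Ind.equiv k A M).toLinearMap).rTensor A
        ((TensorProduct.assoc k M A A).symm (m ⊗ₜ w)) = Ψ w (ρ m) := fun w => by
      induction w using TensorProduct.induction_on with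
      | zero => simp
      | tmul x z =>
        rw [TensorProduct.assoc_symm_tmul, LinearMap.rTensor_tmul, hΨ]
        rfl
      | add x y hx hy => simp only [TensorProduct.tmul_add, map_add, LinearMap.add_apply, hx, hy]
    rw [h4]
    generalize ρ m = y
    induction y using TensorProduct.induction_on with
    | zero => simp
    | tmul p q =>
      rw [LinearMap.lTensor_tmul]
      change act p (LinearMap.mul' k (A ⊗[k] A) (TensorProduct.map (TensorProduct.mk k A A 1)
        (Coalgebra.comul (R := k) ∘ₗ HopfAlgebraStruct.antipode k) (Coalgebra.comul (R := k) q)) *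
          Coalgebra.comul (R := k) b) = _
      rw [one_tmul_mul_comul_antipode]
      induction Coalgebra.comul (R := k) b using TensorProduct.induction_on with
      | zero => simp
      | tmul x z =>
        rw [hΨ]
        simp [act, tweak_tmul]
      | add x y hx hy => simp only [mul_add, map_add, LinearMap.add_apply, hx, hy]
    | add x y hx hy => simp only [map_add, hx, hy]
  | add x y hx hy => simp only [map_add, hx, hy]

end GrothLib.Comodule
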