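import Mathlib

/-! A semisimple ring is von Neumann regular. -/

namespace GrothLib.Comodule

theorem exists_mul_mul_eq_of_isSemisimpleRing {R : Type*} [Ring R] [IsSemisimpleRing R] (n : R) :
    ∃ y : R, n * y * n = n := by
  obtain ⟨e, he, hI⟩ := IsSemisimpleRing.ideal_eq_span_idempotent (Ideal.span {n})
  obtain ⟨y, hy⟩ := Ideal.mem_span_singleton'.1 (hI.symm ▸ Ideal.mem_span_singleton_self e : e ∈ Ideal.span {n})
  obtain ⟨z, hz⟩ := Ideal.mem_span_singleton'.1 (hI ▸ Ideal.mem_span_singleton_self n : n ∈ Ideal.span {e})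
  exact ⟨y, by rw [mul_assoc, hy, ← hz, mul_assoc, he.eq]⟩

end GrothLib.Comodule
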